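import Cfsg.Agent.Mrg.Omega.NO3S.EThree.ExactB_m3
import Cfsg.Agent.Omega.EH3.CoTwo.Stab_m3
import Cfsg.Agent.Mrg.Omega.KL.TwoS.Inp
import Cfsg.Agent.Mrg.Omega.KL.Star.ViaRed_m3
import Cfsg.Agent.Mrg.Omega.HOne.PairP
import Cfsg.Agent.Mrg.Omega.HT.Main_m3
import Cfsg.Agent.Mrg.Omega.HTwo.TComp_m3
import Cfsg.Agent.Mrg.Omega.HTwo.AlphaOne_m3
import Cfsg.Agent.Mrg.Omega.BTwo.RadQ_m3
import Cfsg.Agent.Lib.SylowNormalInf
import Cfsg.Agent.ZN.Facts
import Cfsg.Agent.Involutions.BaerSuzuki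
import Mathlib.Algebra.BigOperators.Intervals
import Cfsg.Agent.FastGrp
import Cfsg.Agent.Prune
set_option linter.all false

section
prune_inst 0x7ffcfefbaff8addfffff7ffffffddffffdfdfffffffffffbfffdfbffffff6b6fffe5fbaffffcdaffdff7e3be34f87b13fdffc23fef6bdd7ffffd5ff45ffbff9fffffbfad71d6bc3e1ffe6ffffbf37fffffffffffffffffffffffffffffffffffffffffffffff

-- part: Mrg/Omega/NOThreeL/RZ/TwoC/SideP
section
set_option linter.all false
open scoped Cfsg.Agent.FastGrp


/-!
# [R-z] (helper855 #24885, helper133 #25243): the two sides, without `N_B`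

Pure group theory, as `Side.lean`, but `(NO)` only for the members of `AA(O)` (`NoA`), and on side 1 the exit is a member
`F` of `AA(C_O(W₂))` which lies in `QB` (`= O₂(C_G(B))`; `QB` contains `C_O(U₁) ∩ C_O(W₂)` and is normalised by `E₂`).

* `NoA`, `exch`, `mem_AA_of_inf`, `mem_inf_of_mem_AA`, `exch_inf`, `le_of_mem_inf`;
* `noA_hul` : `NoA O ⟨V^K⟩`, if every member of `AA(C_O(U))`, `U = ⟨Z^K⟩`, centralises `V`;
* `TwoP` : the situation; **`TwoP.main`**.
-/

set_option autoImplicit false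
set_option linter.unusedSectionVars false

namespace Cfsg.Agent.Omega.NOThreeL.RZ.TwoC.SideP

open Subgroup Cfsg Cfsg.Agent.ZN Cfsg.Agent.Omega.MinPar
open Cfsg.Agent.Omega.NO3S.EThree Cfsg.Agent.Omega.NO3S.EThree.ExactA
open Cfsg.Agent.ZN.ChoiceBase (AA mm mm_eq mm_mono mem_AA_iff AA_nonempty card_le_mm cj mem_cj cj_mem_AA cj_inf cj_mono
  cj_centralizer cj_eq_of_mem_normalizer mem_normalizer_of_cj_le card_cj)
open Cfsg.Agent.Omega.NoFF.Basic (comm_symm comm_mono)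
open Cfsg.Agent.Omega.GI (Inv cj_sup' relIndex_sup_of_comm relIndex_congr)
open Cfsg.Agent.Omega.ML.GMod (hul hul_le hul_le_of le_hul cj_le_hul le_normalizer_hul ri_mono)

universe u

variable {G : Type u} [Group G]

/-- `(NO)` on `N` for the members of `AA(O)` -/
def NoA (O N : Subgroup G) : Prop :=
  ∀ A ∈ AA O, (centralizer (N : Set G)).relIndex A ≤ (centralizer (A : Set G)).relIndex N

variable [Finite G]

section one

variable {O N : Subgroup G} (hN : IsElementaryAbelian 2 N) (hNO : N ≤ O) (h : NoA O N)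
include hN hNO h

theorem exch {A : Subgroup G} (hA : A ∈ AA O) :
    (centralizer (N : Set G)).relIndex A = (centralizer (A : Set G)).relIndex N ∧
      N ⊓ centralizer (A : Set G) ≤ A ∧ (A ⊓ centralizer (N : Set G)) ⊔ N ∈ AA O :=
  swp hN hNO hA (h A hA)

theorem sup_le_inf {A : Subgroup G} (hA : A ≤ O) :
    (A ⊓ centralizer (N : Set G)) ⊔ N ≤ O ⊓ centralizer (N : Set G) :=
  le_inf (sup_le (inf_le_left.trans hA) hNO) (sup_le inf_le_right (eab_iff.1 hN).1)

theorem mm_inf : mm (O ⊓ centralizer (N : Set G)) = mm O := by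
  refine le_antisymm (mm_mono inf_le_left) ?_
  obtain ⟨A, hA⟩ := AA_nonempty O
  have h1 := (exch hN hNO h hA).2.2
  rw [mm_eq h1]
  exact card_le_mm h1.1 (sup_le_inf hN hNO h hA.2.1)

theorem mem_AA_of_inf {A : Subgroup G} (hA : A ∈ AA (O ⊓ centralizer (N : Set G))) : A ∈ AA O := by
  rw [mem_AA_iff] at *
  exact ⟨hA.1, hA.2.1.trans inf_le_left, (mm_inf hN hNO h).ge.trans hA.2.2⟩

theorem mem_inf_of_mem_AA {A : Subgroup G} (hA : A ∈ AA O) (hc : A ≤ centralizer (N : Set G)) :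
    A ∈ AA (O ⊓ centralizer (N : Set G)) := by
  rw [mem_AA_iff] at *
  exact ⟨hA.1, le_inf hA.2.1 hc, (mm_inf hN hNO h).le.trans hA.2.2⟩

theorem exch_inf {A : Subgroup G} (hA : A ∈ AA O) :
    (A ⊓ centralizer (N : Set G)) ⊔ N ∈ AA (O ⊓ centralizer (N : Set G)) :=
  mem_inf_of_mem_AA hN hNO h (exch hN hNO h hA).2.2 (sup_le inf_le_right (eab_iff.1 hN).1)

theorem le_of_mem_inf {A : Subgroup G} (hA : A ∈ AA (O ⊓ centralizer (N : Set G))) : N ≤ A := by
  have h1 := (exch hN hNO h (mem_AA_of_inf hN hNO h hA)).2.1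
  have h2 : N ≤ centralizer (A : Set G) := comm_symm (hA.2.1.trans inf_le_right)
  exact (le_inf le_rfl h2).trans h1

/-- `C_A(U)` is exact on `N` -/
theorem exact_cu {U A : Subgroup G} (hU : U ≤ N) (hA : A ∈ AA O)
    (hnoU : (centralizer (U : Set G)).relIndex A ≤ (centralizer (A : Set G)).relIndex U) :
    (A ⊓ centralizer (U : Set G)) ⊔ U ∈ AA O ∧
      (centralizer (N : Set G)).relIndex (A ⊓ centralizer (U : Set G) : Subgroup G) =
        (centralizer ((A ⊓ centralizer (U : Set G) : Subgroup G) : Set G)).relIndex N := by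
  have h1 := (swp (eab_mono hN hU) (hU.trans hNO) hA hnoU).2.2
  refine ⟨h1, ?_⟩
  have h2 := (exch hN hNO h h1).1
  rw [relIndex_sup_of_comm (hU.trans (eab_iff.1 hN).1) inf_le_right] at h2
  rw [h2]
  refine relIndex_congr (le_antisymm (inf_le_inf_left _ (centralizer_le
    (SetLike.coe_subset_coe.2 le_sup_left))) (le_inf inf_le_left ?_))
  refine comm_symm (sup_le (comm_symm inf_le_right) ?_)
  exact hU.trans (comm_symm (inf_le_left.trans (eab_iff.1 hN).1))

end one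

/-- an elementary abelian `V ≤ O` centralised by `A ∈ AA(O)` lies in `A` -/
theorem le_of_cent {O V A : Subgroup G} (hV : IsElementaryAbelian 2 V) (hVO : V ≤ O) (hA : A ∈ AA O)
    (hc : A ≤ centralizer (V : Set G)) : V ≤ A := by
  have h1 : (centralizer (V : Set G)).relIndex A ≤ (centralizer (A : Set G)).relIndex V := by
    rw [relIndex_eq_one.2 hc]
    exact Nat.one_le_iff_ne_zero.2 (ML.GMod.ri_ne _ _)
  exact (le_inf le_rfl (comm_symm hc)).trans (swp hV hVO hA h1).2.1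

/-- **`NoA O ⟨V^K⟩`** -/
theorem noA_hul {O K U V : Subgroup G} (hU : IsElementaryAbelian 2 U) (hUO : U ≤ O) (hno : NoA O U)
    (hq : K ≤ normalizer ((O ⊓ centralizer (U : Set G) : Subgroup G) : Set G))
    (hV : IsElementaryAbelian 2 V) (hVO : V ≤ O) (hUV : U ≤ hul V K)
    (hc : ∀ A ∈ AA (O ⊓ centralizer (U : Set G)), A ≤ centralizer (V : Set G)) :
    (∀ A ∈ AA (O ⊓ centralizer (U : Set G)), hul V K ≤ A) ∧ IsElementaryAbelian 2 (hul V K) ∧ hul V K ≤ O ∧
      NoA O (hul V K) := by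
  have h1 : ∀ A ∈ AA (O ⊓ centralizer (U : Set G)), hul V K ≤ A := by
    intro A hA
    refine hul_le fun k hk => ?_
    rw [ChoiceBase.cj_le_iff]
    have h2 := cj_mem_AA k⁻¹ hA
    rw [cj_eq_of_mem_normalizer (hq (K.inv_mem hk))] at h2
    exact le_of_cent hV hVO (mem_AA_of_inf hU hUO hno h2) (hc _ h2)
  obtain ⟨A₀, hA₀⟩ := AA_nonempty (O ⊓ centralizer (U : Set G))
  refine ⟨h1, eab_mono hA₀.1 (h1 A₀ hA₀), (h1 A₀ hA₀).trans (hA₀.2.1.trans inf_le_left), fun A hA => ?_⟩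
  have h2 := exch_inf hU hUO hno hA
  have h3 := h1 _ h2
  have h4 : A ⊓ centralizer (U : Set G) ≤ centralizer (hul V K : Set G) :=
    le_sup_left.trans (((eab_iff.1 h2.1).1).trans (centralizer_le h3))
  have e : (centralizer (hul V K : Set G)).relIndex A = (centralizer (U : Set G)).relIndex A := by
    refine relIndex_congr (le_antisymm (inf_le_inf_left _ (centralizer_le hUV)) (le_inf inf_le_left h4))
  rw [e]
  exact (hno A hA).trans (ri_mono _ hUV)

/-! ### The two sides -/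

/-- **The data of the two sides.** -/
structure TwoP (O D K₁ K₂ E₁ E₂ U₁ W₂ NR QB : Subgroup G) : Prop where
  D1 : D ≤ K₁
  D2 : D ≤ K₂
  e1 : E₁ ≤ K₁
  g1 : K₁ ≤ D ⊔ E₁
  e2 : E₂ ≤ K₂
  el1 : IsElementaryAbelian 2 U₁
  el2 : IsElementaryAbelian 2 W₂
  UO : U₁ ≤ O
  WO : W₂ ≤ O
  KU : K₁ ≤ normalizer (U₁ : Set G)
  KW : K₂ ≤ normalizer (W₂ : Set G)
  q1 : K₁ ≤ normalizer ((O ⊓ centralizer (U₁ : Set G) : Subgroup G) : Set G)
  q2 : K₂ ≤ normalizer ((O ⊓ centralizer (W₂ : Set G) : Subgroup G) : Set G)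
  core1 : ∀ R : Subgroup G, R ≤ O → K₁ ≤ normalizer (R : Set G) → R ≤ centralizer (U₁ : Set G)
  no1 : NoA O U₁
  no2 : NoA O W₂
  RW : NR ≤ W₂
  ER : E₁ ≤ normalizer (NR : Set G)
  noR : ∀ A ∈ AA (O ⊓ centralizer (U₁ : Set G)),
    (centralizer (NR : Set G)).relIndex A ≤ (centralizer (A : Set G)).relIndex NR
  qB : O ⊓ centralizer (U₁ : Set G) ⊓ centralizer (W₂ : Set G) ≤ QB
  EQ : E₂ ≤ normalizer (QB : Set G)
  nonloc : ∀ R : Subgroup G, R ≤ O → K₁ ≤ normalizer (R : Set G) → E₂ ≤ normalizer (R : Set G) → R = ⊥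
  ne : U₁ ≠ ⊥

namespace TwoP

variable {O D K₁ K₂ E₁ E₂ U₁ W₂ NR QB : Subgroup G} (h : TwoP O D K₁ K₂ E₁ E₂ U₁ W₂ NR QB)

/-- `SS = {C_A(W₂) W₂ : A ∈ AA(C_O(U₁))}` -/
def SS (O U₁ W₂ : Subgroup G) : Set (Subgroup G) :=
  {X | ∃ A ∈ AA (O ⊓ centralizer (U₁ : Set G)), X = (A ⊓ centralizer (W₂ : Set G)) ⊔ W₂}

include h

theorem aa_cj1 {g : G} (hg : g ∈ K₁) {A : Subgroup G} (hA : A ∈ AA (O ⊓ centralizer (U₁ : Set G))) :
    cj g A ∈ AA (O ⊓ centralizer (U₁ : Set G)) := by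
  have h1 := cj_mem_AA g hA
  rwa [cj_eq_of_mem_normalizer (h.q1 hg)] at h1

theorem aa_cj2 {g : G} (hg : g ∈ K₂) {A : Subgroup G} (hA : A ∈ AA (O ⊓ centralizer (W₂ : Set G))) :
    cj g A ∈ AA (O ⊓ centralizer (W₂ : Set G)) := by
  have h1 := cj_mem_AA g hA
  rwa [cj_eq_of_mem_normalizer (h.q2 hg)] at h1

theorem mem_O1 {A : Subgroup G} (hA : A ∈ AA (O ⊓ centralizer (U₁ : Set G))) : A ∈ AA O :=
  mem_AA_of_inf h.el1 h.UO h.no1 hA

theorem mem_O2 {A : Subgroup G} (hA : A ∈ AA (O ⊓ centralizer (W₂ : Set G))) : A ∈ AA O :=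
  mem_AA_of_inf h.el2 h.WO h.no2 hA

theorem U_le {A : Subgroup G} (hA : A ∈ AA (O ⊓ centralizer (U₁ : Set G))) : U₁ ≤ A :=
  le_of_mem_inf h.el1 h.UO h.no1 hA

theorem W_le {A : Subgroup G} (hA : A ∈ AA (O ⊓ centralizer (W₂ : Set G))) : W₂ ≤ A :=
  le_of_mem_inf h.el2 h.WO h.no2 hA

theorem ss_mem {X : Subgroup G} (hX : X ∈ SS O U₁ W₂) : X ∈ AA (O ⊓ centralizer (W₂ : Set G)) := by
  obtain ⟨A, hA, rfl⟩ := hX
  exact exch_inf h.el2 h.WO h.no2 (h.mem_O1 hA)

theorem ss_cent (hg : Inv K₁ (SS O U₁ W₂)) {X : Subgroup G} (hX : X ∈ SS O U₁ W₂) :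
    X ≤ centralizer (U₁ : Set G) := by
  have h1 : sSup (SS O U₁ W₂) ≤ O := sSup_le fun Z hZ => (h.ss_mem hZ).2.1.trans inf_le_left
  exact (le_sSup hX).trans (h.core1 _ h1 (Inv.le_normalizer hg))

/-- `[U₁, W₂] = 1` -/
theorem comm (hg : Inv K₁ (SS O U₁ W₂)) : W₂ ≤ centralizer (U₁ : Set G) := by
  obtain ⟨A, hA⟩ := AA_nonempty (O ⊓ centralizer (U₁ : Set G))
  exact le_trans le_sup_right (h.ss_cent hg ⟨A, hA, rfl⟩)

/-- `SS = AA(C_O(U₁)) ∩ AA(C_O(W₂))` -/
theorem ss_eq (hg : Inv K₁ (SS O U₁ W₂)) :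
    SS O U₁ W₂ = AA (O ⊓ centralizer (U₁ : Set G)) ∩ AA (O ⊓ centralizer (W₂ : Set G)) := by
  ext X
  constructor
  · intro hX
    have h1 := h.ss_mem hX
    exact ⟨mem_inf_of_mem_AA h.el1 h.UO h.no1 (h.mem_O2 h1) (h.ss_cent hg hX), h1⟩
  · rintro ⟨hX, hX'⟩
    refine ⟨X, hX, ?_⟩
    rw [inf_eq_left.2 (hX'.2.1.trans inf_le_right)]
    exact (sup_eq_left.2 (h.W_le hX')).symm

/-- if no `C_A(NR)`, `A ∈ AA(C_O(U₁))`, moves `W₂`, then `SS` is `K₁`-invariant -/
theorem fail₁ (hf : ∀ A ∈ AA (O ⊓ centralizer (U₁ : Set G)),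
    A ⊓ centralizer (NR : Set G) ≤ centralizer (W₂ : Set G)) : Inv K₁ (SS O U₁ W₂) := by
  have key : ∀ A ∈ AA (O ⊓ centralizer (U₁ : Set G)),
      (A ⊓ centralizer (W₂ : Set G)) ⊔ W₂ = (A ⊓ centralizer (NR : Set G)) ⊔ NR := by
    intro A hA
    have e : A ⊓ centralizer (NR : Set G) = A ⊓ centralizer (W₂ : Set G) :=
      le_antisymm (le_inf inf_le_left (hf A hA)) (inf_le_inf_left _ (centralizer_le h.RW))
    have h1 := (exact_cu h.el2 h.WO h.no2 h.RW (h.mem_O1 hA) (h.noR A hA)).1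
    have h2 := (exch h.el2 h.WO h.no2 (h.mem_O1 hA)).2.2
    rw [e] at h1 ⊢
    refine (Subgroup.eq_of_le_of_card_ge (sup_le_sup_left h.RW _) ?_).symm
    rw [← mm_eq h1, ← mm_eq h2]
  have hD : Inv D (SS O U₁ W₂) := by
    rintro g hg _ ⟨A, hA, rfl⟩
    refine ⟨cj g A, h.aa_cj1 (h.D1 hg) hA, ?_⟩
    rw [cj_sup', cj_inf, cj_centralizer, cj_eq_of_mem_normalizer (h.KW (h.D2 hg))]
  have hE : Inv E₁ (SS O U₁ W₂) := by
    rintro g hg _ ⟨A, hA, rfl⟩
    have hA' := h.aa_cj1 (h.e1 hg) hA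
    refine ⟨cj g A, hA', ?_⟩
    rw [key A hA, key _ hA', cj_sup', cj_inf, cj_centralizer, cj_eq_of_mem_normalizer (h.ER hg)]
  exact (hD.sup hE).mono h.g1

/-- `A ∈ AA(C_O(W₂))`: `C_A(U₁) U₁ ∈ SS` contains all `K₁`-conjugates of `W₂` -/
theorem half (hg : Inv K₁ (SS O U₁ W₂)) {A : Subgroup G} (hA : A ∈ AA (O ⊓ centralizer (W₂ : Set G))) :
    (A ⊓ centralizer (U₁ : Set G)) ⊔ U₁ ∈ SS O U₁ W₂ ∧
      ∀ g ∈ K₁, cj g W₂ ≤ (A ⊓ centralizer (U₁ : Set G)) ⊔ U₁ := by
  have h1 : (A ⊓ centralizer (U₁ : Set G)) ⊔ U₁ ∈ AA (O ⊓ centralizer (U₁ : Set G)) :=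
    exch_inf h.el1 h.UO h.no1 (h.mem_O2 hA)
  have h2 : (A ⊓ centralizer (U₁ : Set G)) ⊔ U₁ ∈ AA (O ⊓ centralizer (W₂ : Set G)) := by
    refine mem_inf_of_mem_AA h.el2 h.WO h.no2 (h.mem_O1 h1) (sup_le ?_ (comm_symm (h.comm hg)))
    exact inf_le_left.trans (hA.2.1.trans inf_le_right)
  have h3 : (A ⊓ centralizer (U₁ : Set G)) ⊔ U₁ ∈ SS O U₁ W₂ := by
    rw [h.ss_eq hg]
    exact ⟨h1, h2⟩
  refine ⟨h3, fun g hgY => ?_⟩
  have h4 := hg g⁻¹ (K₁.inv_mem hgY) _ h3
  rw [h.ss_eq hg] at h4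
  rw [ChoiceBase.cj_le_iff]
  exact h.W_le h4.2

/-- `X₁ = ⟨W₂^K₁⟩ U₁` -/
theorem X_le (hg : Inv K₁ (SS O U₁ W₂)) {A : Subgroup G} (hA : A ∈ AA (O ⊓ centralizer (W₂ : Set G))) :
    (⨆ k : K₁, cj (k : G) W₂) ⊔ U₁ ≤ (A ⊓ centralizer (U₁ : Set G)) ⊔ U₁ :=
  sup_le (iSup_le fun k => (h.half hg hA).2 k k.2) le_sup_right

/-- some `E₂`-conjugate of a member of `SS` is not in `SS` -/
theorem exists_exit (hg : Inv K₁ (SS O U₁ W₂)) : ∃ F ∈ AA (O ⊓ centralizer (W₂ : Set G)), F ≤ QB ∧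
    ¬ F ≤ centralizer (U₁ : Set G) := by
  by_contra hcon
  push Not at hcon
  have hE : Inv E₂ (SS O U₁ W₂) := by
    intro p hp A hA
    have hA' := hA
    rw [h.ss_eq hg] at hA'
    have h1 := h.aa_cj2 (h.e2 hp) hA'.2
    have h2 : cj p A ≤ QB := by
      have h3 : A ≤ QB := (le_inf (le_inf (hA'.1.2.1.trans inf_le_left) (hA'.1.2.1.trans inf_le_right))
        (hA'.2.2.1.trans inf_le_right)).trans h.qB
      have h4 := cj_mono p h3
      rwa [cj_eq_of_mem_normalizer (h.EQ hp)] at h4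
    rw [h.ss_eq hg]
    exact ⟨mem_inf_of_mem_AA h.el1 h.UO h.no1 (h.mem_O2 h1) (hcon _ h1 h2), h1⟩
  have h0 : sSup (SS O U₁ W₂) = ⊥ :=
    h.nonloc _ (sSup_le fun Z hZ => (h.ss_mem hZ).2.1.trans inf_le_left) (Inv.le_normalizer hg) (Inv.le_normalizer hE)
  obtain ⟨A, hA⟩ := AA_nonempty (O ⊓ centralizer (U₁ : Set G))
  have h1 : (A ⊓ centralizer (W₂ : Set G)) ⊔ W₂ ∈ SS O U₁ W₂ := ⟨A, hA, rfl⟩
  have h2 := le_sSup h1
  rw [h.ss_eq hg] at h1
  rw [h0] at h2
  exact h.ne (le_bot_iff.1 ((h.U_le h1.1).trans h2))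

/-- **The two exits.** -/
theorem main :
    (∃ A ∈ AA (O ⊓ centralizer (U₁ : Set G)), A ∈ AA O ∧ U₁ ≤ A ∧
      ¬ A ⊓ centralizer (NR : Set G) ≤ centralizer (W₂ : Set G) ∧
      (centralizer (W₂ : Set G)).relIndex (A ⊓ centralizer (NR : Set G) : Subgroup G) =
        (centralizer ((A ⊓ centralizer (NR : Set G) : Subgroup G) : Set G)).relIndex W₂) ∨
    (∃ X₁ : Subgroup G, X₁ = (⨆ k : K₁, cj (k : G) W₂) ⊔ U₁ ∧ IsElementaryAbelian 2 X₁ ∧
      K₁ ≤ normalizer (X₁ : Set G) ∧ W₂ ≤ X₁ ∧ U₁ ≤ X₁ ∧ X₁ ≤ O ∧ X₁ ≤ centralizer (U₁ : Set G) ∧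
      X₁ ≤ centralizer (W₂ : Set G) ∧
      ∃ F ∈ AA (O ⊓ centralizer (W₂ : Set G)), F ∈ AA O ∧ W₂ ≤ F ∧ F ≤ QB ∧ ¬ F ≤ centralizer (U₁ : Set G) ∧
        F ⊓ centralizer (U₁ : Set G) ≤ centralizer (X₁ : Set G) ∧
        (centralizer (X₁ : Set G)).relIndex F = (centralizer (F : Set G)).relIndex X₁) := by
  by_cases hf : ∀ A ∈ AA (O ⊓ centralizer (U₁ : Set G)),
      A ⊓ centralizer (NR : Set G) ≤ centralizer (W₂ : Set G)
  · right
    have hg := h.fail₁ hf
    obtain ⟨F, hF, hFQ, hmov⟩ := h.exists_exit hg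
    have hFO := h.mem_O2 hF
    have hX := h.X_le hg hF
    have hel : IsElementaryAbelian 2 ((F ⊓ centralizer (U₁ : Set G)) ⊔ U₁ : Subgroup G) :=
      (exch h.el1 h.UO h.no1 hFO).2.2.1
    have hXel := eab_mono hel hX
    have hXab := (eab_iff.1 hel).1
    have hcen : F ⊓ centralizer (U₁ : Set G) ≤
        centralizer (((⨆ k : K₁, cj (k : G) W₂) ⊔ U₁ : Subgroup G) : Set G) :=
      (le_sup_left.trans hXab).trans (centralizer_le hX)
    have hWX : W₂ ≤ (⨆ k : K₁, cj (k : G) W₂) ⊔ U₁ := by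
      refine le_trans ?_ le_sup_left
      have h2 := le_iSup (fun k : K₁ => cj (k : G) W₂) ⟨1, K₁.one_mem⟩
      rwa [ChoiceBase.cj_one] at h2
    have hXO := hX.trans (exch h.el1 h.UO h.no1 hFO).2.2.2.1
    refine ⟨_, rfl, hXel, ?_, hWX, le_sup_right, hXO, ?_, ?_, F, hF, hFO, h.W_le hF, hFQ, hmov, hcen, ?_⟩
    · intro g hgK
      refine mem_normalizer_of_cj_le ?_
      rw [cj_sup', cj_eq_of_mem_normalizer (h.KU hgK)]
      refine sup_le_sup_right ?_ _
      rw [ChoiceBase.cj_le_iff]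
      refine iSup_le fun k => ?_
      rw [← ChoiceBase.cj_le_iff, ChoiceBase.cj_cj]
      exact le_iSup (fun k : K₁ => cj (k : G) W₂) ⟨g * k, K₁.mul_mem hgK k.2⟩
    · exact le_sup_right.trans hXab |>.trans (centralizer_le hX) |> comm_symm
    · exact comm_symm ((hWX.trans hX |>.trans hXab).trans (centralizer_le hX))
    · have e1 : (centralizer (((⨆ k : K₁, cj (k : G) W₂) ⊔ U₁ : Subgroup G) : Set G)).relIndex F =
          (centralizer (U₁ : Set G)).relIndex F :=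
        relIndex_congr (le_antisymm (inf_le_inf_left _ (centralizer_le (SetLike.coe_subset_coe.2 le_sup_right)))
          (le_inf inf_le_left hcen))
      refine le_antisymm ?_ (EK3.Rank.le_of_mem hXel hXO hFO)
      rw [e1, (exch h.el1 h.UO h.no1 hFO).1]
      exact ri_mono _ le_sup_right
  · left
    push Not at hf
    obtain ⟨A, hA, hmov⟩ := hf
    exact ⟨A, hA, h.mem_O1 hA, h.U_le hA, hmov, (exact_cu h.el2 h.WO h.no2 h.RW (h.mem_O1 hA) (h.noR A hA)).2⟩

end TwoP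

end Cfsg.Agent.Omega.NOThreeL.RZ.TwoC.SideP
end

-- part: Mrg/Omega/KL/StarQ/GrpD
section
prune_inst 0x3000010055000000000000000000000020000000000000000040000008090001004400003250020001000ca0400e800000cc00090028000020008a0040000000040120e2903c1c0011000040c800000000000000000000000000000000000000000000000
set_option linter.all false
open scoped Cfsg.Agent.FastGrp

-- merged: Cfsg.Agent.Mrg.Omega.KL.Star.Grp
section

/-!
# The group plug of THEOREM KL* in the family form (helper127 #23829; bb #24011)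

Every consumer of KL* has subgroups of `G` instead of an action.  `C` acts on the elementary abelian `M` by conjugation,
`T` is a Sylow 2-subgroup of `C`, `N = ⟨Z ^ C⟩` with `Z` centralised by `T`, `YY` is a family of `T`-invariant subgroups
of `M`; `A ≤ T` is exact modulo `C_A(N)`.

* `PreF` : the input for an action which need not be faithful, with an `A` which is exact modulo the kernel;
  **`PreF.inpF`** : `PreF → InpF` for `C / C_C(M)` and an atom inside the image of `A`;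
* `GIn` : the input on the level of subgroups; **`GIn.preF`**, **`GIn.inpF`**.
-/

set_option autoImplicit false
set_option linter.unusedSectionVars false

namespace Cfsg.Agent.Omega.KL.Star.Grp

open Subgroup Cfsg Cfsg.Agent.Omega.MinPar
open Cfsg.Agent.ZN (o2 zc)
open Cfsg.Agent.ClassTwoFusion.Quad Cfsg.Agent.Omega.ML.MinFrame
open Cfsg.Agent.MinSimple.MinParabolic (IsMinPar)
open Cfsg.Agent.Omega.NoFF.Basic (conj_conj mem_conj conj_le_iff comm_symm comm_mono Z_le_V V_le)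
open Cfsg.Agent.Omega.OM.KTwo (le_normalizer_V le_V)
open Cfsg.Agent.MinSimple.VModule (le_o2 o2_isPGroup o2_le le_normalizer_o2 o2_le_of_sylow)
open Cfsg.Agent.Omega.TC.LemZ (le_norm_of)
open Cfsg.Agent.Omega.KL.Quo (norm_lift exists_minPar)
open Cfsg.Agent.Omega.KL.TwoS (exists_odd relIndex_anti relIndex_mono actX)
open Cfsg.Agent.Omega.KL.Star.Fam (InpF)
open scoped Pointwise

universe u v

/-- the input for `C` acting on `M`, not necessarily faithfully, with an `A` which is exact modulo the kernel;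
`Z ≤ U ≤ M`, `U` is the submodule generated by `Z`, `T` fixes `Z` -/
structure PreF {C : Type u} [Group C] {M : Type v} [Group M] [MulDistribMulAction C M] (T A : Subgroup C)
    (Z U : Subgroup M) (YY : Set (Subgroup M)) : Prop where
  sq : ∀ m : M, m * m = 1
  two : IsPGroup 2 T
  syl : ¬ 2 ∣ T.index
  TZ : ∀ t ∈ T, ∀ z ∈ Z, t • z = z
  gen : ∀ W : Subgroup M, Z ≤ W → (∀ c : C, ∀ w ∈ W, c • w ∈ W) → U ≤ W
  el : ∀ a ∈ A, a * a = 1
  mv : ¬ A ≤ fxr C U
  ker : A ⊓ fxr C U ≤ fxr C (⊤ : Subgroup M)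
  le : (cv M (A : Set C)).index ≤ (fxr C U).relIndex A
  no : ∀ B : Subgroup C, B ≤ A → (fxr C U).relIndex B ≤ (cv M (B : Set C)).relIndex U
  TY : ∀ Y ∈ YY, ∀ t ∈ T, ∀ w ∈ Y, t • w ∈ Y
  low : ∀ Y ∈ YY, A ≤ o2 (fxr C Y ⊔ T)
  z0 : ∃ Y ∈ YY, ∀ w ∈ Y, ∀ t ∈ T, t • w = w
  uni : ∀ P : Subgroup C, IsMinPar T P → ∃ Y ∈ YY, ∀ g ∈ P, Odd (orderOf g) → ∀ w ∈ Y, g • w = w
  KC : IsKGroup C

/-! ### Subgroups -/

/-- the input on the level of subgroups of `G` -/
structure GIn {G : Type u} [Group G] (C T A M Z : Subgroup G) (YY : Set (Subgroup G)) : Prop where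
  CM : C ≤ normalizer (M : Set G)
  sqM : ∀ m ∈ M, m ^ 2 = 1
  TC : T ≤ C
  two : IsPGroup 2 T
  syl : ¬ 2 ∣ T.relIndex C
  ZM : Z ≤ M
  TZ : T ≤ centralizer (Z : Set G)
  YM : ∀ Y ∈ YY, Y ≤ M
  TY : ∀ Y ∈ YY, T ≤ normalizer (Y : Set G)
  z0 : ∃ Y ∈ YY, T ≤ centralizer (Y : Set G)
  low : ∀ Y ∈ YY, A ≤ o2 (C ⊓ centralizer (Y : Set G) ⊔ T)
  uni : ∀ P : Subgroup G, IsMinPar T P → P ≤ C → ∃ Y ∈ YY, ∀ g ∈ P, Odd (orderOf g) → g ∈ centralizer (Y : Set G)
  AT : A ≤ T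
  sqA : ∀ a ∈ A, a ^ 2 = 1
  mv : ¬ A ≤ centralizer (NoFF.Basic.V Z C : Set G)
  ker : A ⊓ centralizer (NoFF.Basic.V Z C : Set G) ≤ centralizer (M : Set G)
  le : (centralizer (A : Set G)).relIndex M ≤ (centralizer (NoFF.Basic.V Z C : Set G)).relIndex A
  no : ∀ B : Subgroup G, B ≤ A → (centralizer (NoFF.Basic.V Z C : Set G)).relIndex B ≤
    (centralizer (B : Set G)).relIndex (NoFF.Basic.V Z C)
  K : IsKGroup C

namespace GIn

variable {G : Type u} [Group G] {C T A M Z : Subgroup G} {YY : Set (Subgroup G)}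

end GIn

end Cfsg.Agent.Omega.KL.Star.Grp

end

-- merged: Cfsg.Agent.Mrg.Omega.KL.StarQ.GrpD
section

/-!
# KL* with bad parabolics: the plug on the level of subgroups (bb #24701)

* `PreD T A D Z Y` : the input `InpD` for an action which need not be faithful and an `A` which is exact modulo the
  kernel;  **`PreD.inp`** : `InpD` for `C / C_C(M)` and an atom inside the image of `A`;
* `GInD C T A D M Z Y` : the input on the level of subgroups of `G`: `C` normalises the elementary abelian `M`, `T` is a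
  Sylow 2-subgroup of `C`;  **`GInD.exists_sysT`**, **`GInD.false_of`**.
-/

set_option autoImplicit false
set_option linter.unusedSectionVars false

namespace Cfsg.Agent.Omega.KL.StarQ

open Subgroup Cfsg Cfsg.Agent.Omega.MinPar
open Cfsg.Agent.ZN (o2)
open Cfsg.Agent.ClassTwoFusion.Quad Cfsg.Agent.Omega.ML.MinFrame
open Cfsg.Agent.MinSimple.MinParabolic (IsMinPar)
open Cfsg.Agent.Omega.NoFF.Basic (mem_conj conj_le_iff V_le Z_le_V)
open Cfsg.Agent.MinSimple.VModule (le_o2 o2_isPGroup o2_le le_normalizer_o2 o2_le_of_sylow oddGen oddGen_def)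
open Cfsg.Agent.Omega.KL.Quo (norm_lift exists_minPar)
open Cfsg.Agent.Omega.KL.TwoS (exists_odd actX)
open scoped Pointwise

universe u v

/-- the input `InpD` for `C` acting on `M`, with an `A` which is exact modulo the kernel -/
structure PreD {C : Type u} [Group C] {M : Type v} [Group M] [MulDistribMulAction C M] (T A D : Subgroup C)
    (Z Y : Subgroup M) : Prop where
  sq : ∀ m : M, m * m = 1
  two : IsPGroup 2 T
  syl : ¬ 2 ∣ T.index
  tZ : ∀ z ∈ Z, ∀ t ∈ T, t • z = z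
  NY : ∀ g ∈ normalizer (T : Set C), ∀ w ∈ Y, g • w ∈ Y
  cY : ∀ w ∈ Y, (∀ t ∈ T, t • w = w) → ∀ g : C, g • w = w
  ND : normalizer (T : Set C) ≤ D
  AD : A ≤ o2 D
  good : ∀ P : Subgroup C, IsMinPar T P → ¬ P ≤ D →
    (∀ g ∈ P, Odd (orderOf g) → ∀ w ∈ Y, g • w = w) ∧ ∃ z ∈ Z, ∃ p ∈ P, p • z ≠ z
  bad : ∀ P : Subgroup C, IsMinPar T P → P ≤ D → (∀ z ∈ Z, ∀ p ∈ P, p • z = z) ∨ ∀ p ∈ P, ∀ w ∈ Y, p • w ∈ Y
  el : ∀ a ∈ A, a * a = 1
  AY : A ≤ o2 (fxr C Y ⊔ T)
  /-- `A` is faithful on `⟨Z^C⟩` modulo the kernel -/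
  nk : ∀ a ∈ A, (∀ (c : C), ∀ z ∈ Z, a • c • z = c • z) → ∀ m : M, a • m = m
  mv : ∃ a ∈ A, ∃ m : M, a • m ≠ m
  no : ∀ B : Subgroup C, B ≤ A → (fxr C (⊤ : Subgroup M)).relIndex B ≤ (cv M (B : Set C)).index
  le : (cv M (A : Set C)).index ≤ (fxr C (⊤ : Subgroup M)).relIndex A
  KC : IsKGroup C

section pre

variable {C : Type u} [Group C] [Finite C] {M : Type v} [Group M] [Finite M] [MulDistribMulAction C M]
  {T A D : Subgroup C} {Z Y : Subgroup M}

theorem PreD.inp (h : PreD T A D Z Y) :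
    ∃ (H : Type u) (_ : Group H) (_ : Finite H) (_ : MulDistribMulAction H M) (T' A' D' : Subgroup H),
      InpD T' A' D' Z Y := by
  have htriv : ∀ k ∈ fxr C (⊤ : Subgroup M), ∀ m : M, k • m = m := fun k hk m => hk m (mem_top m)
  have hN : (fxr C (⊤ : Subgroup M)).Normal := fxr_normal fun _ _ _ => mem_top _
  set N := fxr C (⊤ : Subgroup M) with hNdef
  let _ : MulDistribMulAction (C ⧸ N) M := quoAct N htriv
  let π : C →* C ⧸ N := QuotientGroup.mk' N
  have hπ : Function.Surjective π := QuotientGroup.mk'_surjective N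
  have he : ∀ (g : C) (v : M), π g • v = g • v := fun _ _ => rfl
  have hker : ∀ k : C, (∀ v : M, k • v = v) → π k = 1 := fun k hk =>
    (QuotientGroup.eq_one_iff k).2 fun v _ => hk v
  have hker2 : ∀ k : C, π k = 1 → ∀ v : M, k • v = v := fun k hk v =>
    (QuotientGroup.eq_one_iff k).1 hk v (mem_top v)
  -- stabilisers
  have hfx : ∀ Y' : Subgroup M, (fxr C Y').map π = fxr (C ⧸ N) Y' := by
    intro Y'
    ext g
    constructor
    · rintro ⟨c, hc, rfl⟩
      exact hc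
    · intro hg
      obtain ⟨c, rfl⟩ := hπ g
      exact ⟨c, hg, rfl⟩
  have ho2 : ∀ S : Subgroup C, A ≤ o2 S → A.map π ≤ o2 (S.map π) := by
    intro S hS
    refine (map_mono hS).trans (le_o2 (map_mono (o2_le _)) ((o2_isPGroup _).map π) ?_)
    exact (map_mono (le_normalizer_o2 _)).trans (le_normalizer_map π)
  have hy : A.map π ≤ o2 (fxr (C ⧸ N) Y ⊔ T.map π) := by
    rw [← hfx, ← Subgroup.map_sup]
    exact ho2 _ h.AY
  have hsyl : ¬ 2 ∣ (T.map π).index := fun h2 => h.syl (h2.trans (index_map_dvd T hπ))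
  have hKH : IsKGroup (C ⧸ N) := ML.Final.sec_KG.quo C h.KC N
  have hel : ∀ a ∈ A.map π, a * a = 1 := by
    rintro _ ⟨a, ha, rfl⟩
    rw [← map_mul, h.el a ha, map_one]
  -- `A.map π` is faithful on `⟨Z^C⟩`
  have hfa : ∀ g ∈ A.map π, (∀ (c : C ⧸ N), ∀ z ∈ Z, g • c • z = c • z) → g = 1 := by
    rintro _ ⟨a, ha, rfl⟩ hg
    exact hker a (h.nk a ha fun c z hz => hg (π c) z hz)
  -- (NO)
  have hcv : ∀ B : Subgroup C, cv M (B.map π : Set (C ⧸ N)) = cv M (B : Set C) := by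
    intro B
    ext v
    constructor
    · exact fun hv a ha => hv _ ⟨a, ha, rfl⟩
    · rintro hv _ ⟨a, ha, rfl⟩
      exact hv a ha
  have hcard : ∀ B : Subgroup C, Nat.card (B.map π) = N.relIndex B := by
    intro B
    rw [← relIndex_bot_left, ← relIndex_comap, MonoidHom.comap_bot, QuotientGroup.ker_mk']
  have hno : ∀ B : Subgroup (C ⧸ N), B ≤ A.map π → Nat.card B ≤ (cv M (B : Set (C ⧸ N))).index := by
    intro B hB
    have e : (A ⊓ B.comap π).map π = B := by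
      apply le_antisymm
      · rintro _ ⟨a, ha, rfl⟩
        exact ha.2
      · intro g hg
        obtain ⟨a, ha, rfl⟩ := hB hg
        exact ⟨a, ⟨ha, hg⟩, rfl⟩
    rw [← e, hcv, hcard]
    exact h.no _ inf_le_left
  have hex : (cv M (A.map π : Set (C ⧸ N))).index = Nat.card (A.map π) := by
    refine le_antisymm ?_ (hno _ le_rfl)
    rw [hcv, hcard]
    exact h.le
  have hA1 : A.map π ≠ ⊥ := by
    intro h1
    obtain ⟨a, ha, m, hm⟩ := h.mv
    apply hm
    refine hker2 a ?_ m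
    rw [← mem_bot, ← h1]
    exact ⟨a, ha, rfl⟩
  -- an atom
  obtain ⟨B, ⟨hBA, hB1, hBe⟩, hmin⟩ : ∃ B : Subgroup (C ⧸ N), (B ≤ A.map π ∧ B ≠ ⊥ ∧
      (cv M (B : Set (C ⧸ N))).index = Nat.card B) ∧ ∀ B' : Subgroup (C ⧸ N), (B' ≤ A.map π ∧ B' ≠ ⊥ ∧
      (cv M (B' : Set (C ⧸ N))).index = Nat.card B') → B' ≤ B → B' = B := by
    obtain ⟨B, hB⟩ := (Set.toFinite {B : Subgroup (C ⧸ N) | B ≤ A.map π ∧ B ≠ ⊥ ∧
      (cv M (B : Set (C ⧸ N))).index = Nat.card B}).exists_minimal ⟨A.map π, le_rfl, hA1, hex⟩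
    exact ⟨B, hB.prop, fun B' hB' hle => le_antisymm hle (hB.le_of_le hB' hle)⟩
  have htZ : ∀ z ∈ Z, ∀ t ∈ T.map π, t • z = z := by
    rintro z hz _ ⟨t, ht, rfl⟩
    exact h.tZ z hz t ht
  -- elements of odd order
  have hoddm : ∀ R : Subgroup C, (∀ g ∈ R, Odd (orderOf g) → ∀ w ∈ Y, g • w = w) →
      ∀ g ∈ R.map π, Odd (orderOf g) → ∀ w ∈ Y, g • w = w := by
    intro R h1 g hg hog w hw
    obtain ⟨c, hc, hco, rfl⟩ := exists_odd π hg hog
    exact h1 c hc hco w hw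
  refine ⟨C ⧸ N, inferInstance, inferInstance, inferInstance, T.map π, B, D.map π, ?_⟩
  exact
    { sq := h.sq
      two := h.two.map π
      syl := hsyl
      tZ := htZ
      NY := by
        intro g hg z hz
        obtain ⟨t, ht, n, hn, rfl⟩ := norm_lift π hπ h.two h.syl hg
        rw [he, mul_smul]
        exact h.NY t (le_normalizer ht) _ (h.NY n hn z hz)
      cY := by
        intro w hw tw g
        obtain ⟨c, rfl⟩ := hπ g
        exact h.cY w hw (fun t ht => tw (π t) ⟨t, ht, rfl⟩) c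
      ND := by
        intro g hg
        obtain ⟨t, ht, n, hn, rfl⟩ := norm_lift π hπ h.two h.syl hg
        exact ⟨t * n, D.mul_mem (h.ND (le_normalizer ht)) (h.ND hn), rfl⟩
      AD := hBA.trans (ho2 _ h.AD)
      good := by
        intro P hP hPD
        obtain ⟨R, hR, rfl⟩ := exists_minPar π hπ hP
        obtain ⟨h1, z, hz, p, hp, hpz⟩ := h.good R hR fun h2 => hPD (map_mono h2)
        exact ⟨hoddm R h1, z, hz, π p, ⟨p, hp, rfl⟩, hpz⟩
      bad := by
        intro P hP _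
        obtain ⟨R, hR, rfl⟩ := exists_minPar π hπ hP
        by_cases hRD : R ≤ D
        · rcases h.bad R hR hRD with h1 | h1
          · left
            rintro z hz _ ⟨r, hr, rfl⟩
            exact h1 z hz r hr
          · right
            rintro _ ⟨r, hr, rfl⟩ w hw
            exact h1 r hr w hw
        · right
          have h1 := (h.good R hR hRD).1
          rintro _ ⟨r, hr, rfl⟩ w hw
          have h3 : oddGen R ⊔ T = R := Star.Core.oddGen_sup hR.le
            fun h2 => h.syl (h2.trans (relIndex_dvd_index_of_le hR.le))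
          rw [he]
          have hle : R ≤
              { carrier := {g : C | ∀ w : M, g • w ∈ Y ↔ w ∈ Y}
                one_mem' := fun w => by rw [one_smul]
                mul_mem' := fun {a b} ha hb w => by rw [mul_smul, ha, hb]
                inv_mem' := fun {a} ha w => by rw [← ha, smul_inv_smul] } := by
            conv_lhs => rw [← h3]
            refine sup_le ?_ fun t ht w => ?_
            · rw [oddGen_def, closure_le]
              rintro g ⟨hgR, hgo⟩ w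
              refine ⟨fun hw => ?_, fun hw => (h1 g hgR hgo w hw).symm ▸ hw⟩
              have h4 := h1 g⁻¹ (inv_mem hgR) (by rwa [orderOf_inv]) _ hw
              rw [inv_smul_smul] at h4
              exact h4 ▸ hw
            · refine ⟨fun hw => ?_, fun hw => h.NY t (le_normalizer ht) w hw⟩
              have h4 := h.NY t⁻¹ (le_normalizer (inv_mem ht)) _ hw
              rwa [inv_smul_smul] at h4
          exact (hle hr w).2 hw
      el := fun a ha => hel a (hBA ha)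
      exact := hBe
      atom := by
        intro B' hB' hB1' hne
        refine lt_of_le_of_ne (hno B' (hB'.trans hBA)) fun h1 => hne ?_
        exact hmin B' ⟨hB'.trans hBA, hB1', h1.symm⟩ hB'
      nA := by
        -- `O₂(H)` centralises `⟨Z^H⟩`
        intro hle
        apply hB1
        rw [eq_bot_iff]
        intro b hb
        rw [mem_bot]
        refine hfa b (hBA hb) fun c z hz => ?_
        have h1 : c⁻¹ * b * c ∈ o2 (⊤ : Subgroup (C ⧸ N)) := by
          have := (mem_normalizer_iff.1 (le_normalizer_o2 (⊤ : Subgroup (C ⧸ N)) (mem_top c⁻¹)) b).1 (hle hb)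
          rwa [inv_inv] at this
        have h2 : o2 (⊤ : Subgroup (C ⧸ N)) ≤ T.map π :=
          o2_le_of_sylow (h.two.map π) (by rwa [relIndex_top_right])
        have h3 := htZ z hz _ (h2 h1)
        rw [mul_smul, mul_smul, inv_smul_eq_iff] at h3
        exact h3
      AY := hBA.trans hy
      KH := hKH }

end pre

/-! ### Subgroups -/

/-- **the input on the level of subgroups of `G`** -/
structure GInD {G : Type u} [Group G] (C T A D M Z Y : Subgroup G) : Prop where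
  CM : C ≤ normalizer (M : Set G)
  sqM : ∀ m ∈ M, m ^ 2 = 1
  TC : T ≤ C
  two : IsPGroup 2 T
  syl : ¬ 2 ∣ T.relIndex C
  ZM : Z ≤ M
  YM : Y ≤ M
  TZ : T ≤ centralizer (Z : Set G)
  NY : C ⊓ normalizer (T : Set G) ≤ normalizer (Y : Set G)
  /-- `C_Y(T)` is centralised by `C` -/
  cY : Y ⊓ centralizer (T : Set G) ≤ centralizer (C : Set G)
  ND : C ⊓ normalizer (T : Set G) ≤ D
  AD : A ≤ o2 D
  /-- the `T`-minimal `P ≤ C` which are not in `D` -/
  good : ∀ P : Subgroup G, IsMinPar T P → P ≤ C → ¬ P ≤ D →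
    (∀ g ∈ P, Odd (orderOf g) → g ∈ centralizer (Y : Set G)) ∧ ¬ P ≤ centralizer (Z : Set G)
  /-- the `T`-minimal `P ≤ C ⊓ D` -/
  bad : ∀ P : Subgroup G, IsMinPar T P → P ≤ C → P ≤ D → P ≤ centralizer (Z : Set G) ∨ P ≤ normalizer (Y : Set G)
  AT : A ≤ T
  sqA : ∀ a ∈ A, a ^ 2 = 1
  AY : A ≤ o2 (C ⊓ centralizer (Y : Set G) ⊔ T)
  nk : A ⊓ centralizer (NoFF.Basic.V Z C : Set G) ≤ centralizer (M : Set G)
  mv : ¬ A ≤ centralizer (M : Set G)
  no : ∀ B : Subgroup G, B ≤ A →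
    (centralizer (M : Set G)).relIndex B ≤ (centralizer (B : Set G)).relIndex M
  le : (centralizer (A : Set G)).relIndex M ≤ (centralizer (M : Set G)).relIndex A
  K : IsKGroup C

namespace GInD

variable {G : Type u} [Group G] {C T A D M Z Y : Subgroup G}

theorem preD [Finite G] (h : GInD C T A D M Z Y) :
    letI := actX h.CM
    PreD (T.subgroupOf C) (A.subgroupOf C) (D.subgroupOf C) (Z.subgroupOf M) (Y.subgroupOf M) := by
  let := actX h.CM
  change PreD (T.subgroupOf C) (A.subgroupOf C) (D.subgroupOf C) (Z.subgroupOf M) (Y.subgroupOf M)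
  have hAC : A ≤ C := h.AT.trans h.TC
  have hsm : ∀ (c : C) (m : M), ((c • m : M) : G) = c * m * (c : G)⁻¹ := fun _ _ => rfl
  have hfix : ∀ (c : C) (m : M), c • m = m ↔ (m : G) * c = c * m := by
    intro c m
    rw [Subtype.ext_iff, hsm, mul_inv_eq_iff_eq_mul, eq_comm]
  have hfxr : ∀ Y : Subgroup G, Y ≤ M → fxr C (Y.subgroupOf M) = (centralizer (Y : Set G)).subgroupOf C := by
    intro Y hY
    ext c
    rw [mem_subgroupOf, mem_centralizer_iff]
    constructor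
    · intro h y hy
      exact (hfix c ⟨y, hY hy⟩).1 (h _ (mem_subgroupOf.2 hy))
    · intro h y hy
      exact (hfix c y).2 (h _ (mem_subgroupOf.1 hy))
  have hfxt : fxr C (⊤ : Subgroup M) = (centralizer (M : Set G)).subgroupOf C := by
    rw [← hfxr M le_rfl, subgroupOf_self]
  have hcv : ∀ B : Subgroup G, B ≤ C → cv M (B.subgroupOf C : Set C) = (centralizer (B : Set G)).subgroupOf M := by
    intro B hB
    ext m
    rw [mem_subgroupOf, mem_centralizer_iff]
    constructor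
    · intro h b hb
      exact ((hfix ⟨b, hB hb⟩ m).1 (h _ (mem_subgroupOf.2 hb))).symm
    · intro h b hb
      exact (hfix b m).2 (h b (mem_subgroupOf.1 hb)).symm
  have hNT : ∀ g : C, g ∈ normalizer ((T.subgroupOf C : Subgroup C) : Set C) → (g : G) ∈ normalizer (T : Set G) := by
    intro g hg
    rw [mem_normalizer_iff] at hg ⊢
    intro t
    constructor
    · intro ht
      exact (hg ⟨t, h.TC ht⟩).1 ht
    · intro ht
      have h1 : t ∈ C := by
        have h2 := C.mul_mem (C.mul_mem (C.inv_mem g.2) (h.TC ht)) g.2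
        have e : (g : G)⁻¹ * (g * t * (g : G)⁻¹) * g = t := by group
        rwa [e] at h2
      exact (hg ⟨t, h1⟩).2 ht
  have hTD : T ≤ D := (le_inf h.TC le_normalizer).trans h.ND
  exact
    { sq := by
        intro m
        apply Subtype.ext
        have h1 := h.sqM m m.2
        rw [pow_two] at h1
        exact h1
      two := h.two.comap_of_injective C.subtype C.subtype_injective
      syl := h.syl
      tZ := by
        intro z hz t ht
        rw [hfix]
        exact mem_centralizer_iff.1 (h.TZ (mem_subgroupOf.1 ht)) z (mem_subgroupOf.1 hz)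
      NY := by
        intro g hg w hw
        refine mem_subgroupOf.2 ?_
        rw [hsm]
        exact (mem_normalizer_iff.1 (h.NY ⟨g.2, hNT g hg⟩) _).1 (mem_subgroupOf.1 hw)
      cY := by
        intro w hw tw g
        rw [hfix]
        have h1 : (w : G) ∈ centralizer (T : Set G) := by
          rw [mem_centralizer_iff]
          intro t ht
          exact ((hfix ⟨t, h.TC ht⟩ w).1 (tw _ (mem_subgroupOf.2 ht))).symm
        exact (mem_centralizer_iff.1 (h.cY ⟨mem_subgroupOf.1 hw, h1⟩) g g.2).symm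
      ND := fun g hg => mem_subgroupOf.2 (h.ND ⟨g.2, hNT g hg⟩)
      AD := by
        have h1 : A ≤ o2 (D ⊓ C) := (le_inf h.AD (hAC)).trans (by
          refine le_o2 (le_inf (inf_le_left.trans (o2_le _)) inf_le_right) ((o2_isPGroup _).to_le inf_le_left) ?_
          intro g hg
          rw [mem_normalizer_iff]
          intro x
          have h2 := mem_normalizer_iff.1 (le_normalizer_o2 D hg.1) x
          constructor
          · rintro ⟨hx1, hx2⟩
            exact ⟨h2.1 hx1, C.mul_mem (C.mul_mem hg.2 hx2) (C.inv_mem hg.2)⟩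
          · rintro ⟨hx1, hx2⟩
            refine ⟨h2.2 hx1, ?_⟩
            have h3 := C.mul_mem (C.mul_mem (C.inv_mem hg.2) hx2) hg.2
            have e : g⁻¹ * (g * x * g⁻¹) * g = x := by group
            rwa [e] at h3)
        refine Plug.sub_o2 (S := D ⊓ C) (fun c => ?_) h1
        rw [mem_subgroupOf]
        exact ⟨fun hc => ⟨hc, c.2⟩, fun hc => hc.1⟩
      good := by
        intro P hP hPD
        have hR := Plug.minPar_map h.TC hP
        obtain ⟨h1, h2⟩ := h.good _ hR (map_subtype_le P) fun h3 => hPD fun p hp =>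
          mem_subgroupOf.2 (h3 (mem_map_of_mem C.subtype hp))
        refine ⟨fun g hg hog w hw => ?_, ?_⟩
        · rw [hfix]
          exact mem_centralizer_iff.1 (h1 g (mem_map_of_mem C.subtype hg) (by rwa [orderOf_coe])) w
            (mem_subgroupOf.1 hw)
        · by_contra hc
          push Not at hc
          apply h2
          rintro _ ⟨p, hp, rfl⟩
          refine mem_centralizer_iff.2 fun z hz => ?_
          exact (hfix p ⟨z, h.ZM hz⟩).1 (hc ⟨z, h.ZM hz⟩ (mem_subgroupOf.2 hz) p hp)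
      bad := by
        intro P hP hPD
        have hR := Plug.minPar_map h.TC hP
        rcases h.bad _ hR (map_subtype_le P) (by
          rintro _ ⟨p, hp, rfl⟩
          exact mem_subgroupOf.1 (hPD hp)) with h1 | h1
        · left
          intro z hz p hp
          rw [hfix]
          exact mem_centralizer_iff.1 (h1 (mem_map_of_mem C.subtype hp)) z (mem_subgroupOf.1 hz)
        · right
          intro p hp w hw
          refine mem_subgroupOf.2 ?_
          rw [hsm]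
          exact (mem_normalizer_iff.1 (h1 (mem_map_of_mem C.subtype hp)) _).1 (mem_subgroupOf.1 hw)
      el := by
        intro a ha
        apply Subtype.ext
        have h1 := h.sqA a (mem_subgroupOf.1 ha)
        rw [pow_two] at h1
        exact h1
      AY := by
        refine Plug.sub_o2 (S := C ⊓ centralizer (Y : Set G) ⊔ T) (fun c => ?_) h.AY
        have e : (C ⊓ centralizer (Y : Set G)).subgroupOf C = (centralizer (Y : Set G)).subgroupOf C := by
          rw [inf_subgroupOf_left]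
        rw [hfxr Y h.YM, ← e, ← subgroupOf_sup inf_le_left h.TC, mem_subgroupOf]
      nk := by
        intro a ha hc m
        rw [hfix]
        have h1 : NoFF.Basic.V Z C ≤ centralizer ({(a : G)} : Set G) := by
          refine V_le fun c hcC => ?_
          intro x hx
          rw [mem_conj] at hx
          have h2 := hc ⟨c, hcC⟩ ⟨_, h.ZM hx⟩ (mem_subgroupOf.2 hx)
          have h3 : ((⟨c, hcC⟩ : C) • (⟨_, h.ZM hx⟩ : M) : M) = (⟨x, by
              have := ((⟨c, hcC⟩ : C) • (⟨_, h.ZM hx⟩ : M) : M).2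
              have e : c * (c⁻¹ * x * c) * c⁻¹ = x := by group
              rw [hsm] at this
              change c * (c⁻¹ * x * c) * c⁻¹ ∈ M at this
              rwa [e] at this⟩ : M) := by
            apply Subtype.ext
            change c * (c⁻¹ * x * c) * c⁻¹ = x
            group
          rw [h3, hfix] at h2
          rw [mem_centralizer_singleton_iff]
          exact h2
        have h2 : (a : G) ∈ centralizer (NoFF.Basic.V Z C : Set G) := by
          rw [mem_centralizer_iff]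
          intro v hv
          exact mem_centralizer_singleton_iff.1 (h1 hv)
        exact mem_centralizer_iff.1 (h.nk ⟨mem_subgroupOf.1 ha, h2⟩) m m.2
      mv := by
        by_contra hc
        push Not at hc
        apply h.mv
        intro a ha
        refine mem_centralizer_iff.2 fun m hm => ?_
        exact (hfix ⟨a, hAC ha⟩ ⟨m, hm⟩).1 (hc _ (mem_subgroupOf.2 ha) _)
      no := by
        intro B hB
        set B' : Subgroup G := B.map C.subtype with hB'
        have hBB : B'.subgroupOf C = B := comap_map_eq_self_of_injective C.subtype_injective B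
        have hB'A : B' ≤ A := by
          rintro _ ⟨b, hb, rfl⟩
          exact mem_subgroupOf.1 (hB hb)
        have h1 := h.no B' hB'A
        rw [hfxt, ← hBB, hcv B' (hB'A.trans hAC), relIndex_subgroupOf (hB'A.trans hAC)]
        exact h1
      le := by
        rw [hfxt, hcv A hAC, relIndex_subgroupOf hAC]
        exact h.le
      KC := h.K }

theorem inpD [Finite G] (h : GInD C T A D M Z Y) :
    ∃ (X N : Type u) (_ : Group X) (_ : Finite X) (_ : Group N) (_ : Finite N) (_ : MulDistribMulAction X N)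
      (T' A' D' : Subgroup X) (Z' Y' : Subgroup N), InpD T' A' D' Z' Y' := by
  let := actX h.CM
  obtain ⟨X, _, _, _, T', A', D', h1⟩ := h.preD.inp
  exact ⟨X, M, inferInstance, inferInstance, inferInstance, inferInstance, inferInstance, T', A', D', _, _, h1⟩

theorem false_of [Finite G] (hML : ML.Final.MLK.{u, u}) (hE : ML.Ex.Two.Ext.{u, u}) (h : GInD C T A D M Z Y) :
    False := by
  obtain ⟨X, N, _, _, _, _, _, T', A', D', Z', Y', h1⟩ := h.inpD
  exact h1.false_of hML hE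

end GInD

end Cfsg.Agent.Omega.KL.StarQ

end
end

-- part: Mrg/Omega/NO3S/CaseLW/QWa
section
prune_inst 0x100000000000000000000000000000000000000000000000000000000000002000000000000000000000000000000000cc00000000000000000000000400000000000000000000000000000000000000000000000000000000000000000000000000000
set_option linter.all false
open scoped Cfsg.Agent.FastGrp

-- merged: Cfsg.Agent.Mrg.Omega.HOneTwo.BSTrick
section

section


/-!
# II.0h1, `q = 2`: the BS-trick ((E) of helper202's #17185, helper766's #17168, helper699's #17406)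

* `exists_conj` : Baer-Suzuki for an involution `u` of `H` acting on `NN` with `O₂(H/C_H(NN)) = 1`:
  some conjugate `h u h⁻¹` (`h ∈ H`) is with `u` in no common 2-group;
* `eq_of` : abstract form of `c₀ = z`;
* `eq_z` : `TvH M r t Q N`, `JConst M r t Q N c`, `JEnd M r Q N c`, `S ≤ M ≤ C(z)`, `z ∈ Z₀`,
  `N r = ⟨Z₀^{C(r)}⟩`, `G` of characteristic 2 type: `c = z`.
-/

set_option autoImplicit false

namespace Cfsg.Agent.Omega.HOneTwo.BSTrick

open Subgroup Cfsg Cfsg.Agent.ZN Cfsg.Agent.Omega.MinPar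
open Cfsg.Agent.MinSimple.VModule (zc_le_zl o2_isPGroup)
open Cfsg.Agent.Omega.HOne.TvDef
open Cfsg.Agent.Omega.HOne.TvHSide (le_normalizer_of le_normalizer_inf_centralizer red_of)

universe u

variable {G : Type u} [Group G] [Finite G]

/-- **Baer-Suzuki for an involution of `H` acting on `NN`** -/
theorem exists_conj {H NN : Subgroup G} (hNH : H ≤ normalizer (NN : Set G))
    (hred : ∀ K : Subgroup G, K ≤ H → H ≤ normalizer (K : Set G) →
      (∀ x ∈ K, ∃ k : ℕ, x ^ 2 ^ k ∈ centralizer (NN : Set G)) → K ≤ centralizer (NN : Set G))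
    {u : G} (hu : u ∈ H) (huu : u * u = 1) (hun : u ∉ centralizer (NN : Set G)) :
    ∃ h ∈ H, ∀ T : Subgroup G, IsPGroup 2 T → u ∈ T → h * u * h⁻¹ ∈ T → False := by
  have hCH := le_normalizer_inf_centralizer hNH
  set C : Subgroup G := H ⊓ centralizer (NN : Set G) with hC
  have hn : (C.subgroupOf H).Normal := normal_subgroupOf_of_le_normalizer hCH
  set f := QuotientGroup.mk' (C.subgroupOf H) with hf
  have hf1 : ∀ y : H, f y = 1 → (y : G) ∈ C := by
    intro y hy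
    exact (QuotientGroup.eq_one_iff (N := C.subgroupOf H) y).1 hy
  set a := f ⟨u, hu⟩ with ha
  have haa : a * a = 1 := by
    rw [ha, ← map_mul]
    have : (⟨u, hu⟩ : H) * ⟨u, hu⟩ = 1 := Subtype.ext huu
    rw [this, map_one]
  obtain ⟨g, hg1, hgo, hgi⟩ := Involutions.BaerSuzuki.exists_odd_inverted a haa (by
    intro h1
    have h2 := hred (((normalClosure {a}).comap f).map H.subtype) (map_subtype_le _) ?_ ?_
    · have h3 : u ∈ ((normalClosure {a}).comap f).map H.subtype :=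
        ⟨⟨u, hu⟩, subset_normalClosure rfl, rfl⟩
      exact hun (h2 h3)
    · refine le_normalizer_of ?_
      rintro x hx _ ⟨y, hy, rfl⟩
      refine ⟨⟨x, hx⟩ * y * ⟨x, hx⟩⁻¹, ?_, rfl⟩
      change f _ ∈ normalClosure {a}
      rw [map_mul, map_mul, map_inv]
      exact normalClosure_normal.conj_mem _ hy _
    · rintro _ ⟨y, hy, rfl⟩
      obtain ⟨k, hk⟩ := h1 ⟨f y, hy⟩
      refine ⟨k, ?_⟩
      have h2 : f (y ^ 2 ^ k) = 1 := by
        rw [map_pow]
        exact congrArg Subtype.val hk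
      exact (hf1 _ h2).2)
  obtain ⟨⟨h, hh⟩, rfl⟩ := QuotientGroup.mk'_surjective (C.subgroupOf H) g
  refine ⟨h, hh, fun T hT hT1 hT2 => hg1 ?_⟩
  have hainv : a⁻¹ = a := inv_eq_of_mul_eq_one_left haa
  obtain ⟨k, hk⟩ := hT ⟨u * (h * u * h⁻¹), T.mul_mem hT1 hT2⟩
  have hk' : (u * (h * u * h⁻¹)) ^ 2 ^ k = 1 := congrArg Subtype.val hk
  have h3 : f ((⟨u, hu⟩ : H) * (⟨h, hh⟩ * ⟨u, hu⟩ * ⟨h, hh⟩⁻¹)) = (f ⟨h, hh⟩)⁻¹ ^ 2 := by
    rw [map_mul, map_mul, map_mul, map_inv, ← ha]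
    change a * (f ⟨h, hh⟩ * a * (f ⟨h, hh⟩)⁻¹) = _
    calc a * (f ⟨h, hh⟩ * a * (f ⟨h, hh⟩)⁻¹) = a * f ⟨h, hh⟩ * a * (f ⟨h, hh⟩)⁻¹ := by group
      _ = a * f ⟨h, hh⟩ * a⁻¹ * (f ⟨h, hh⟩)⁻¹ := by rw [hainv]
      _ = (f ⟨h, hh⟩)⁻¹ * (f ⟨h, hh⟩)⁻¹ := by rw [hgi]
      _ = _ := by rw [sq]
  have h4 : ((⟨u, hu⟩ : H) * (⟨h, hh⟩ * ⟨u, hu⟩ * ⟨h, hh⟩⁻¹)) ^ 2 ^ k = 1 := Subtype.ext hk'
  have h5 : (f ⟨h, hh⟩) ^ 2 ^ (k + 1) = 1 := by
    have := congrArg f h4
    rw [map_pow, h3, map_one, ← pow_mul, inv_pow, inv_eq_one] at this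
    rw [pow_succ, mul_comm]
    exact this
  have h6 : orderOf (f ⟨h, hh⟩) ∣ 2 ^ (k + 1) := orderOf_dvd_of_pow_eq_one h5
  have h7 : Nat.Coprime (orderOf (f ⟨h, hh⟩)) (2 ^ (k + 1)) :=
    Nat.Coprime.pow_right _ (Nat.coprime_two_right.2 hgo)
  exact orderOf_eq_one_iff.1 (h7.eq_one_of_dvd h6)

variable {M : Subgroup G} {r t z c : G} {Q N : G → Subgroup G}

omit [Finite G] in
theorem le_normalizer_N (h : TvH M r t Q N) :
    centralizer ({r} : Set G) ≤ normalizer (N r : Set G) := by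
  refine le_normalizer_of fun x hx n hn => ?_
  have h1 := h.Nc x r n hn
  rw [mem_centralizer_singleton_iff] at hx
  have e : x * r * x⁻¹ = r := by
    rw [mul_inv_eq_iff_eq_mul]
    exact hx
  rwa [e] at h1

omit [Finite G] in
/-- two elements in a 2-group, the second normalising -/
theorem common {A : Subgroup G} {u w f : G} (hA : IsPGroup 2 A) (hu : u ∈ A) (hww : w * w = 1)
    (hAn : ∀ x, x * f = f * x → ∀ a ∈ A, x * a * x⁻¹ ∈ A) (hw : w * f = f * w) :
    ∃ T : Subgroup G, IsPGroup 2 T ∧ u ∈ T ∧ w ∈ T := by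
  have h1 : zpowers w ≤ normalizer (A : Set G) := by
    rw [zpowers_le, mem_normalizer_iff]
    intro x
    refine ⟨fun hx => hAn w hw x hx, fun hx => ?_⟩
    have hwi : w⁻¹ = w := inv_eq_of_mul_eq_one_left hww
    have h2 := hAn w hw _ hx
    have e : w * (w * x * w⁻¹) * w⁻¹ = (w * w) * x * (w⁻¹ * w⁻¹) := by group
    rw [e, hwi, hww, one_mul, mul_one] at h2
    exact h2
  have h2 : IsPGroup 2 (zpowers w) := MinSimple.Basic.isPGroup_zpowers (by rw [sq]; exact hww)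
  refine ⟨zpowers w ⊔ A, IsPGroup.to_sup_of_normal_right' h2 hA h1, mem_sup_right hu,
    mem_sup_left (mem_zpowers w)⟩

/-- **the BS-trick, abstract form** -/
theorem eq_of (h : TvH M r t Q N) (hc : JConst M r t Q N c) (hE : JEnd M r Q N c)
    (hred : ∀ K : Subgroup G, K ≤ centralizer ({r} : Set G) →
      centralizer ({r} : Set G) ≤ normalizer (K : Set G) →
      (∀ x ∈ K, ∃ k : ℕ, x ^ 2 ^ k ∈ centralizer (N r : Set G)) → K ≤ centralizer (N r : Set G))
    (hzN : z ∈ N r) (hz1 : z ≠ 1) (hzz : z * z = 1) (hMz : ∀ m ∈ M, m * z = z * m)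
    (hA : ∀ f, f * f = 1 → f ≠ 1 → (∀ m ∈ M, m * f = f * m) →
      ∃ A : Subgroup G, IsPGroup 2 A ∧ UU M r ≤ A ∧ ∀ x, x * f = f * x → ∀ a ∈ A, x * a * x⁻¹ ∈ A) :
    c = z := by
  by_contra hcz
  obtain ⟨hc1, hcU, hcZ, hMc, -⟩ := hc
  have hM : ∀ s ∈ UU M r, s ∈ M := by
    have : UU M r ≤ M := by
      unfold UU
      rw [closure_le]
      rintro _ ⟨m, hm, rfl⟩
      exact M.mul_mem (M.mul_mem hm (h.Q_le h.r_mem)) (M.inv_mem hm)
    exact this
  obtain ⟨u, hu, huQ⟩ := h.beta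
  have huu : u * u = 1 := h.UU_sq hu
  have hrU : r ∈ UU M r := Om_le_UU Om_base
  have hur : u ∈ centralizer ({r} : Set G) := by
    rw [mem_centralizer_singleton_iff]
    exact h.UU_comm hu hrU
  have hun : u ∉ centralizer (N r : Set G) := by
    intro h1
    exact huQ (h.UN u hu fun n hn => (mem_centralizer_iff.1 h1 n hn).symm)
  obtain ⟨g, hg, hgT⟩ := exists_conj (le_normalizer_N h) hred hur huu hun
  set w := g * u * g⁻¹ with hw
  have hww : w * w = 1 := by
    calc w * w = g * (u * u) * g⁻¹ := by rw [hw]; group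
      _ = 1 := by rw [huu]; group
  rw [mem_centralizer_singleton_iff] at hg
  have hgr' : g⁻¹ * r = r * g⁻¹ := by
    calc g⁻¹ * r = g⁻¹ * (r * g) * g⁻¹ := by group
      _ = g⁻¹ * (g * r) * g⁻¹ := by rw [hg]
      _ = _ := by group
  rw [mem_centralizer_singleton_iff] at hur
  have hwr : w * r = r * w := by
    calc w * r = g * u * (g⁻¹ * r) := by rw [hw]; group
      _ = g * (u * r) * g⁻¹ := by rw [hgr']; group
      _ = (g * r) * u * g⁻¹ := by rw [hur]; group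
      _ = _ := by rw [hg, hw]; group
  -- no admissible `f` commutes with `w`
  have key : ∀ f, f * f = 1 → f ≠ 1 → (∀ m ∈ M, m * f = f * m) → w * f ≠ f * w := by
    intro f hf hf1 hfM hwf
    obtain ⟨A, hA1, hA2, hA3⟩ := hA f hf hf1 hfM
    obtain ⟨T, hT, hT1, hT2⟩ := common hA1 (hA2 hu) hww hA3 hwf
    exact hgT T hT hT1 hT2
  have hNg : ∀ n ∈ N r, g⁻¹ * n * g ∈ N r := by
    intro n hn
    have h1 := h.Nc g⁻¹ r n hn
    have e : g⁻¹ * r * g⁻¹⁻¹ = r := by rw [hgr']; group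
    rw [e, inv_inv] at h1
    exact h1
  -- the index of the centraliser of `w`
  have hidx : ∀ m ∈ N r, ∀ n ∈ N r, w * m ≠ m * w → w * n ≠ n * w → w * (m * n) = m * n * w := by
    intro m hm n hn h1 h2
    have mv : ∀ x ∈ N r, w * x ≠ x * w → ∃ v ∈ UU M r, v * (g⁻¹ * x * g) ≠ (g⁻¹ * x * g) * v := by
      intro x _ hx
      refine ⟨u, hu, fun h3 => hx ?_⟩
      calc w * x = g * (u * (g⁻¹ * x * g)) * g⁻¹ := by rw [hw]; group
        _ = g * ((g⁻¹ * x * g) * u) * g⁻¹ := by rw [h3]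
        _ = _ := by rw [hw]; group
    have h3 := hE.2.2 _ (hNg m hm) _ (hNg n hn) (mv m hm h1) (mv n hn h2) u hu
    calc w * (m * n) = g * (u * ((g⁻¹ * m * g) * (g⁻¹ * n * g))) * g⁻¹ := by rw [hw]; group
      _ = g * ((g⁻¹ * m * g) * (g⁻¹ * n * g) * u) * g⁻¹ := by rw [h3]
      _ = _ := by rw [hw]; group
  -- `r c ∈ N r`
  have hrc : r * c ∈ N r := by
    rw [mem_centralizer_iff] at hun
    push Not at hun
    obtain ⟨n, hn, h1⟩ := hun
    have h2 : u * n * u⁻¹ * n⁻¹ = r * c := by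
      rcases hE.1 u hu n hn with h2 | h2
      · exfalso
        apply h1
        have : u * n = n * u := by
          have h3 : u * n * u⁻¹ * n⁻¹ * (n * u) = 1 * (n * u) := by rw [h2]
          simpa only [mul_assoc, _root_.inv_mul_cancel_left, _root_.inv_mul_cancel, _root_.mul_one, _root_.one_mul] using h3
        exact this.symm
      · exact h2
    rw [← h2]
    refine mul_mem ?_ (inv_mem hn)
    have h3 := h.Nc u r n hn
    have e : u * r * u⁻¹ = r := by rw [hur]; group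
    rwa [e] at h3
  have hcc : c * c = 1 := h.UU_sq hcU
  have hcr : c * r = r * c := h.UU_comm hcU hrU
  have hcm : c ∈ M := hM c hcU
  have hzc : z * c = c * z := (hMz c hcm).symm
  have h1 : w * z ≠ z * w := key z hzz hz1 hMz
  have h2 : w * c ≠ c * w := key c hcc hc1 hMc
  have h3 : w * (r * c) ≠ r * c * w := by
    intro h4
    apply h2
    have h5 : r * (w * c) = r * (c * w) := by
      rw [← mul_assoc, ← hwr, mul_assoc, h4, mul_assoc]
    exact mul_left_cancel h5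
  have h4 := hidx z hzN (r * c) hrc h1 h3
  -- `w` commutes with `z c`
  have hrz : r * z = z * r := hMz r (h.Q_le h.r_mem)
  have h5 : w * (z * c) = z * c * w := by
    have e1 : z * (r * c) = r * (z * c) := by rw [← mul_assoc, ← hrz, mul_assoc]
    rw [e1] at h4
    have h6 : r * (w * (z * c)) = r * (z * c * w) := by
      rw [← mul_assoc, ← hwr, mul_assoc, h4, mul_assoc]
    exact mul_left_cancel h6
  refine key (z * c) ?_ ?_ ?_ h5
  · calc z * c * (z * c) = z * (c * z) * c := by group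
      _ = z * (z * c) * c := by rw [hzc]
      _ = (z * z) * (c * c) := by group
      _ = 1 := by rw [hzz, hcc, one_mul]
  · intro h6
    apply hcz
    have h7 : z * (z * c) = z * 1 := by rw [h6]
    rw [← mul_assoc, hzz, one_mul, mul_one] at h7
    exact h7
  · intro m hm
    rw [← mul_assoc, hMz m hm, mul_assoc, hMc m hm, mul_assoc]

/-- the groups `A_f = ⟨Ω₁Z(S)^{C(f)}⟩` -/
theorem exists_A (S : Sylow 2 G) (hG : IsCharacteristicTwoType G) (hSM : (S : Subgroup G) ≤ M)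
    (hr : r ∈ zc (S : Subgroup G)) {f : G} (hff : f * f = 1) (hf1 : f ≠ 1)
    (hMf : ∀ m ∈ M, m * f = f * m) :
    ∃ A : Subgroup G, IsPGroup 2 A ∧ UU M r ≤ A ∧ ∀ x, x * f = f * x → ∀ a ∈ A, x * a * x⁻¹ ∈ A := by
  have hM : M ≤ centralizer ({f} : Set G) := by
    intro m hm
    rw [mem_centralizer_singleton_iff]
    exact hMf m hm
  have hloc : IsLoc (S : Subgroup G) (centralizer ({f} : Set G)) :=
    isLoc_centralizer S (by rw [sq]; exact hff) hf1 (hSM.trans hM)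
  refine ⟨zl (S : Subgroup G) (centralizer ({f} : Set G)), ?_, ?_, ?_⟩
  · exact (o2_isPGroup _).to_le ((hloc.zl_le S hG).trans (zc_le _))
  · unfold UU
    rw [closure_le]
    rintro _ ⟨m, hm, rfl⟩
    exact (mem_normalizer_iff.1 (le_normalizer_zl _ _ (hM hm)) r).1 (_root_.Cfsg.Agent.MinSimple.VModule.zc_le_zl _ _ hr)
  · intro x hx a ha
    exact (mem_normalizer_iff.1 (le_normalizer_zl _ _ ((mem_centralizer_singleton_iff).2 hx)) a).1 ha

/-- **(E): `c₀ = z`.** -/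
theorem eq_z (S : Sylow 2 G) (hG : IsCharacteristicTwoType G) (h : TvH M r t Q N)
    (hc : JConst M r t Q N c) (hE : JEnd M r Q N c) {Z₀ : Set G} (hSM : (S : Subgroup G) ≤ M)
    (hr : r ∈ zc (S : Subgroup G)) (hZS : ∀ x ∈ (S : Subgroup G), ∀ y ∈ Z₀, x * y = y * x)
    (hZN : Z₀ ⊆ N r)
    (hNN : N r ≤ _root_.Subgroup.closure {x | ∃ g ∈ centralizer ({r} : Set G), ∃ y ∈ Z₀, g * y * g⁻¹ = x})
    (hz : z ∈ Z₀) (hz1 : z ≠ 1) (hzz : z * z = 1) (hMz : ∀ m ∈ M, m * z = z * m) : c = z := by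
  have hSr : (S : Subgroup G) ≤ centralizer ({r} : Set G) := by
    intro x hx
    rw [mem_centralizer_singleton_iff]
    exact ((mem_zc.1 hr).2.1 x hx)
  exact eq_of h hc hE (red_of hSr S.isPGroup' (MinSimple.Basic.not_dvd_relIndex S hSr) hZS
    (le_normalizer_N h) hZN hNN) (hZN hz) hz1 hzz hMz
    fun f hff hf1 hMf => exists_A S hG hSM hr hff hf1 hMf

/-- **(E) in the position `Pos`, `N r = ⟨z^{C(r)}⟩`.** -/
theorem Pos.eq_z {S : Sylow 2 G} {P V : Subgroup G} {ι : Type*} {R : ι → Subgroup G} {o : ι}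
    (p : HTwo.Entry.Pos S P V R o r z) (h : TvH M r t Q N)
    (hc : JConst M r t Q N c) (hE : JEnd M r Q N c) (hSM : (S : Subgroup G) ≤ M)
    (hMz : M ≤ centralizer ({z} : Set G)) (hzN : z ∈ N r)
    (hNN : N r ≤ _root_.Subgroup.closure {x | ∃ g ∈ centralizer ({r} : Set G), g * z * g⁻¹ = x}) : c = z := by
  have hSr : (S : Subgroup G) ≤ centralizer ({r} : Set G) := by
    rw [← p.normalizer_eq]
    exact p.S_R
  have hrS : r ∈ zc (S : Subgroup G) := by
    rw [mem_zc]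
    have hrS' : r ∈ (S : Subgroup G) := p.toHT.V_le_S (p.toHT.R_le o p.r_mem)
    exact ⟨hrS', fun s hs => mem_centralizer_singleton_iff.1 (hSr hs), by rw [sq]; exact p.r_sq⟩
  refine BSTrick.eq_z S p.char2 h hc hE (Z₀ := {z}) hSM hrS ?_ ?_ ?_ rfl p.z_ne p.z_sq ?_
  · rintro x hx _ rfl
    exact (mem_zc.1 p.z_mem.1).2.1 x hx
  · rintro _ rfl
    exact hzN
  · refine hNN.trans (_root_.Subgroup.closure_mono ?_)
    rintro x ⟨g, hg, e⟩
    exact ⟨g, hg, z, rfl, e⟩
  · intro m hm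
    exact mem_centralizer_singleton_iff.1 (hMz hm)

end Cfsg.Agent.Omega.HOneTwo.BSTrick

end

section


/-!
# The BS-trick over a 2-group `S` which is Sylow in `N(R o)` (not in `G`)

Port of `HOneTwo/BSTrick` to `HTT S P V R o`:
* `exists_A` : the 2-group `O₂(C(f)) ≥ U` for `1 ≠ f` centralised by `M ≥ S, X`;
* `eq_z` : `TvH M r t Q N`, `JConst M r t Q N c`, `JEnd M r Q N c`, `S, X ≤ M ≤ C(z)`, `z ∈ Z₀`,
  `N r = ⟨Z₀^{C(r)}⟩` : `c = z`;
* `jend` : `JEnd M r Q N z`.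
-/

set_option autoImplicit false

namespace Cfsg.Agent.Omega.HT.BSTrick

open Subgroup Cfsg Cfsg.Agent.ZN Cfsg.Agent.Omega.MinPar
open Cfsg.Agent.Omega.BTwo hiding UU
open Cfsg.Agent.MinSimple.VModule (o2_isPGroup)
open Cfsg.Agent.Omega.HOne.TvDef
open Cfsg.Agent.Omega.HOne.TvHSide (red_of)
open Cfsg.Agent.Omega.HOneTwo.BSTrick (le_normalizer_N eq_of)

universe u

variable {G : Type u} [Group G] [Finite G] {ι : Type*} {S P V : Subgroup G} {R : ι → Subgroup G} {o : ι}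
  {M : Subgroup G} {r t z c : G} {Q N : G → Subgroup G}

end Cfsg.Agent.Omega.HT.BSTrick

end

section


/-!
# II.0h1, `q = 2`, case (α) OVER `T` : (1), (2)

* `core_of_sylow` : `O₂(M / C_M(U)) = 1` for `U = ⟨p^M⟩`, `p` centralised by a 2-group `T ≤ M` of odd index in `M`;
* `exists_cj_S` : 2-subgroups of `L` are conjugate into a 2-group `T ≤ L` of odd index;
* `alpha_two` = (2) : `Q o` induces more than one transvection on `U = ⟨V^{C(z)}⟩`.
-/

set_option autoImplicit false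
set_option linter.unusedSectionVars false

namespace Cfsg.Agent.Omega.HT.AlphaOne

open Subgroup Cfsg Cfsg.Agent.ZN Cfsg.Agent.Omega.BTwo
open Cfsg.Agent.Omega.MinPar Cfsg.Agent.Omega.HOneTwo Cfsg.Agent.Omega.HTwo.Hat Cfsg.Agent.Omega.HTwo.ThmA
open Cfsg.Agent.Omega.HTwo.Par Cfsg.Agent.Omega.HT
open Cfsg.Agent.Omega.HTwo.AlphaOne (ZQ_swap ZQ_not_RC)

universe u

section core

variable {G : Type u} [Group G]

end core

section two

variable {G : Type u} [Group G] [Finite G] {ι : Type*} {S P V : Subgroup G} {R : ι → Subgroup G} {o : ι}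
  (b : HTT S P V R o)
include b

end two

end Cfsg.Agent.Omega.HT.AlphaOne

end

section


/-!
# II.0h1, `q = 2`, over `T`: the module `Y` of ALPHA in the product case (fill-in `(Z12)` of #18272)

`C = C_G(y)`, `T ≤ C` a 2-group of index at most 2 in every 2-group containing it (not necessarily Sylow in `C`),
`r, v ∈ Z(T)`, `O₂(C) ≤ T`; `T` is Sylow in `C_G(v)`; `E ≤ C` normalises an elementary abelian group `A ∋ v` and is
transitive on `A#`; the involutions of `Z(T)` are `g` or `v g`, `g` centralised by `E`. Then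
`Y = ⟨r^C⟩ ⟨v^C⟩ ≤ Z(O₂(C))` and `O₂(C / C_C(Y)) = 1`: `exists_Y`.
-/

set_option autoImplicit false

namespace Cfsg.Agent.Omega.HT.FillY

open Subgroup Cfsg Cfsg.Agent Cfsg.Agent.ZN Cfsg.Agent.MinSimple.VModule
open Cfsg.Agent.MinSimple.Basic Cfsg.Agent.Omega.BTwo Cfsg.Agent.Omega.HT.TComp
open Cfsg.Agent.Omega.HOneTwo (cl cj_le_cl le_cl le_normalizer_cl cl_le)

variable {G : Type*} [Group G]

theorem le_sup_of_pow [Finite G] {X S D K : Subgroup G} (hS : IsPGroup 2 S)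
    (hSs : ¬ 2 ∣ S.relIndex X) (hDX : D ≤ X) (hD : X ≤ normalizer (D : Set G))
    (hK : X ≤ normalizer (K : Set G)) (h : ∀ x ∈ D, ∃ k : ℕ, x ^ 2 ^ k ∈ K) : D ≤ K ⊔ (S ⊓ D) := by
  have hf : Fact (Nat.Prime 2) := ⟨Nat.prime_two⟩
  have h1 : IsPGroup 2 (S.subgroupOf X) := hS.comap_of_injective _ X.subtype_injective
  have hn : (D.subgroupOf X).Normal := normal_subgroupOf_of_le_normalizer hD
  have hn2 : ((X ⊓ K).subgroupOf X).Normal := by
    refine normal_subgroupOf_of_le_normalizer ?_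
    intro x hx
    rw [← cj_eq_self_iff, cj_inf, cj_eq_self_iff.2 (hK hx), cj_eq_self_iff.2 (le_normalizer hx)]
  have h2 := Lib.SylowNormalInf.le_sup_inf (h1.toSylow hSs : Sylow 2 X)
    (D.subgroupOf X) ((X ⊓ K).subgroupOf X) (fun x hx => by
      obtain ⟨k, hk⟩ := h x hx
      exact ⟨k, (x ^ 2 ^ k).2, hk⟩)
  have h3 := Subgroup.map_mono (f := X.subtype) h2
  rw [subgroupOf_map_subtype, inf_eq_left.mpr hDX, Subgroup.map_sup, subgroupOf_map_subtype] at h3
  refine h3.trans (sup_le_sup (inf_le_left.trans inf_le_right) ?_)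
  rintro _ ⟨x, hx, rfl⟩
  exact hx

/-- elements of `K ⊔ H`, `H` normalising `K` -/
theorem exists_mul {K H : Subgroup G} (h : H ≤ normalizer (K : Set G)) {x : G} (hx : x ∈ K ⊔ H) :
    ∃ k ∈ K, ∃ s ∈ H, x = k * s := by
  let W : Subgroup G :=
    { carrier := {x | ∃ k ∈ K, ∃ s ∈ H, x = k * s}
      one_mem' := ⟨1, K.one_mem, 1, H.one_mem, (one_mul 1).symm⟩
      mul_mem' := by
        rintro _ _ ⟨k, hk, s, hs, rfl⟩ ⟨k', hk', s', hs', rfl⟩
        refine ⟨k * (s * k' * s⁻¹), K.mul_mem hk (conj_mem_of_normalizer (h hs) hk'), s * s',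
          H.mul_mem hs hs', ?_⟩
        group
      inv_mem' := by
        rintro _ ⟨k, hk, s, hs, rfl⟩
        refine ⟨s⁻¹ * k⁻¹ * s⁻¹⁻¹, conj_mem_of_normalizer (h (H.inv_mem hs)) (K.inv_mem hk), s⁻¹,
          H.inv_mem hs, ?_⟩
        group }
  have h1 : K ⊔ H ≤ W := sup_le (fun k hk => ⟨k, hk, 1, H.one_mem, (mul_one k).symm⟩)
    (fun s hs => ⟨1, K.one_mem, s, hs, (one_mul s).symm⟩)
  exact h1 hx

theorem inv_mul_mem [Finite G] {T L : Subgroup G} (h : T.relIndex L ≤ 2) {a b : G} (ha : a ∈ L) (hb : b ∈ L)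
    (ha' : a ∉ T) (hb' : b ∉ T) : a⁻¹ * b ∈ T := by
  have h0 : T.relIndex L ≠ 0 := Nat.card_pos.ne'
  have h1 : T.relIndex L = 1 ∨ T.relIndex L = 2 := by omega
  rcases h1 with h1 | h1
  · exact absurd (relIndex_eq_one.1 h1 ha) ha'
  · have h2 : (T.subgroupOf L).index = 2 := h1
    have h3 := (Subgroup.mul_mem_iff_of_index_two h2 (a := (⟨a, ha⟩ : L)⁻¹) (b := ⟨b, hb⟩)).2 ?_
    · exact h3
    · rw [inv_mem_iff]
      exact ⟨fun h => absurd h ha', fun h => absurd h hb'⟩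

/-- the core: every normal `B ≤ C` whose squares centralise `Y` centralises `r` and `v` -/
theorem core [Finite G] {C T A E Y B : Subgroup G} {r v : G} (hT : IsPGroup 2 T) (hTC : T ≤ C)
    (h2 : ∀ L : Subgroup G, IsPGroup 2 L → T ≤ L → T.relIndex L ≤ 2)
    (hTr : ∀ t ∈ T, t * r = r * t) (hTv : ∀ t ∈ T, t * v = v * t)
    (hodd : ¬ 2 ∣ T.relIndex (centralizer ({v} : Set G)))
    (hvA : v ∈ A) (hA2 : ∃ a ∈ A, a ≠ 1 ∧ a ≠ v) (hTA : ∀ t ∈ T, ∀ a ∈ A, t * a * t⁻¹ ∈ A)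
    (hEC : E ≤ C) (hEA : ∀ e ∈ E, ∀ a ∈ A, e * a * e⁻¹ ∈ A)
    (hE : ∀ a ∈ A, a ≠ 1 → ∃ e ∈ E, e * v * e⁻¹ = a)
    (hz : ∀ f ∈ T, (∀ t ∈ T, t * f = f * t) → f * f = 1 → ∃ g, (∀ e ∈ E, e * g = g * e) ∧ (f = g ∨ f = v * g))
    (hYT : Y ≤ T) (hY2 : ∀ x ∈ Y, x * x = 1) (hCY : C ≤ normalizer (Y : Set G))
    (hrY : r ∈ Y) (hvY : v ∈ Y)
    (hBC : B ≤ C) (hCB : C ≤ normalizer (B : Set G)) (hB : ∀ b ∈ B, ∀ n ∈ Y, b * b * n = n * (b * b)) :
    ∀ b ∈ B, b * r = r * b ∧ b * v = v * b := by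
  have hnor : ∀ c ∈ C, ∀ n ∈ Y, c * n * c⁻¹ ∈ Y := fun c hc n hn => conj_mem_of_normalizer (hCY hc) hn
  have hnB : ∀ c ∈ C, ∀ n ∈ B, c * n * c⁻¹ ∈ B := fun c hc n hn => conj_mem_of_normalizer (hCB hc) hn
  have comm : ∀ x ∈ Y, ∀ y ∈ Y, x * y = y * x := by
    intro x hx y hy
    have h1 := hY2 _ (Y.mul_mem hx hy)
    rw [eq_inv_of_mul_eq_one_left h1, mul_inv_rev, inv_eq_of_mul_eq_one_left (hY2 x hx),
      inv_eq_of_mul_eq_one_left (hY2 y hy)]
  have hAY : A ≤ Y := by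
    intro a ha
    by_cases h1 : a = 1
    · rw [h1]; exact Y.one_mem
    · obtain ⟨e, he, rfl⟩ := hE a ha h1
      exact hnor e (hEC he) v hvY
  have hK : C ≤ normalizer (centralizer (Y : Set G) : Set G) :=
    hCY.trans (normalizer_le_normalizer_centralizer _)
  have hBK : ∀ x ∈ B, ∃ k : ℕ, x ^ 2 ^ k ∈ centralizer (Y : Set G) := by
    intro x hx
    refine ⟨1, ?_⟩
    rw [pow_one, pow_two, mem_centralizer_iff]
    exact fun n hn => (hB x hx n hn).symm
  -- (I)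
  obtain ⟨L, hTL, hLC, hLp, hLo⟩ := exists_syl hT hTC
  have hTL2 := h2 L hLp hTL
  let F : G → Prop := fun b => ∃ k ∈ centralizer (Y : Set G), ∃ t ∈ T, b = k * t
  have hF1 : ∀ x ∈ B, ∀ y ∈ B, ¬ F x → ¬ F y → F (x⁻¹ * y) := by
    have h3 := le_sup_of_pow hLp hLo hBC hCB hK hBK
    have h4 : ∀ x ∈ B, ∃ k ∈ centralizer (Y : Set G), ∃ s ∈ L ⊓ B, x = k * s := fun x hx =>
      exists_mul ((inf_le_left.trans hLC).trans hK) (h3 hx)
    intro x hx y hy hFx hFy
    obtain ⟨k, hk, s, hs, rfl⟩ := h4 x hx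
    obtain ⟨k', hk', s', hs', rfl⟩ := h4 y hy
    have h5 : s⁻¹ * s' ∈ T := inv_mul_mem hTL2 hs.1 hs'.1 (fun h => hFx ⟨k, hk, s, h, rfl⟩)
      (fun h => hFy ⟨k', hk', s', h, rfl⟩)
    refine ⟨s⁻¹ * (k⁻¹ * k') * s⁻¹⁻¹, conj_mem_of_normalizer (hK (hLC (L.inv_mem hs.1)))
      (mul_mem (inv_mem hk) hk'), s⁻¹ * s', h5, by group⟩
  have hF2 : ∀ x, F x → x * v = v * x := by
    rintro _ ⟨k, hk, t, ht, rfl⟩
    have h3 := mem_centralizer_iff.1 hk v hvY
    rw [mul_assoc, hTv t ht, ← mul_assoc, ← h3, mul_assoc]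
  -- (II)
  have hBv : ∀ b ∈ B, b * v = v * b := by
    by_contra hcon
    push Not at hcon
    obtain ⟨b, hb, hbv⟩ := hcon
    have hFb : ¬ F b := fun h => hbv (hF2 b h)
    obtain ⟨w, hw⟩ : ∃ w, w = b * v * b⁻¹ := ⟨_, rfl⟩
    have hwv : w ≠ v := by
      intro h
      apply hbv
      rw [hw] at h
      exact mul_inv_eq_iff_eq_mul.1 h
    have hwY : w ∈ Y := by rw [hw]; exact hnor b (hBC hb) v hvY
    -- elements of `B` move `v` to `w` or fix `v`
    have hmove : ∀ x ∈ B, ¬ F x → x * v * x⁻¹ = w := by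
      intro x hx hFx
      have h3 := hF2 _ (hF1 b hb x hx hFb hFx)
      have h4 : x = b * (b⁻¹ * x) := by group
      rw [h4, hw]
      calc b * (b⁻¹ * x) * v * (b * (b⁻¹ * x))⁻¹ = b * ((b⁻¹ * x) * v) * (b⁻¹ * x)⁻¹ * b⁻¹ := by group
        _ = b * v * b⁻¹ := by rw [h3]; group
    have hfix : ∀ x ∈ B, x * v * x⁻¹ = v ∨ x * v * x⁻¹ = w := by
      intro x hx
      by_cases h : F x
      · left; rw [hF2 x h]; group
      · right; exact hmove x hx h
    obtain ⟨c, hc⟩ : ∃ c, c = v * w := ⟨_, rfl⟩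
    have hcY : c ∈ Y := by rw [hc]; exact Y.mul_mem hvY hwY
    have hc1 : c ≠ 1 := by
      intro h
      apply hwv
      rw [hc] at h
      have h3 := eq_inv_of_mul_eq_one_right h
      rw [h3, inv_eq_of_mul_eq_one_left (hY2 v hvY)]
    have hcT : ∀ t ∈ T, t * c = c * t := by
      intro t ht
      have h3 : t * w * t⁻¹ = w := by
        have h4 : t * w * t⁻¹ = (t * b * t⁻¹) * v * (t * b * t⁻¹)⁻¹ := by
          have h5 : t⁻¹ * v * t = v := by
            rw [mul_assoc, ← hTv t ht]; group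
          rw [hw]
          calc t * (b * v * b⁻¹) * t⁻¹ = t * b * v * b⁻¹ * t⁻¹ := by group
            _ = t * b * (t⁻¹ * v * t) * b⁻¹ * t⁻¹ := by rw [h5]
            _ = _ := by group
        rcases hfix _ (hnB t (hTC ht) b hb) with h5 | h5
        · exfalso
          rw [h5] at h4
          apply hwv
          have h6 : w = t⁻¹ * (t * w * t⁻¹) * t := by group
          rw [h6, h4, mul_assoc, ← hTv t ht]; group
        · rw [h4, h5]
      rw [hc, ← mul_assoc, hTv t ht, mul_assoc, mul_inv_eq_iff_eq_mul.1 h3]; group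
    obtain ⟨g, hgE, hg⟩ := hz c (hYT hcY) hcT (hY2 c hcY)
    -- the pattern on `A`
    have hpat : ∀ x ∈ B, ∀ e ∈ E, x * (e * v * e⁻¹) * x⁻¹ = e * v * e⁻¹ ∨
        x * (e * v * e⁻¹) * x⁻¹ = e * w * e⁻¹ := by
      intro x hx e he
      have h3 : x * (e * v * e⁻¹) * x⁻¹ = e * ((e⁻¹ * x * e⁻¹⁻¹) * v * (e⁻¹ * x * e⁻¹⁻¹)⁻¹) * e⁻¹ := by group
      rcases hfix _ (hnB e⁻¹ (C.inv_mem (hEC he)) x hx) with h4 | h4
      · left; rw [h3, h4]
      · right; rw [h3, h4]
    obtain ⟨a, ha, ha1, hav⟩ := hA2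
    have hvv := hY2 v hvY
    rcases hg with hg | hg
    · -- `c = g` is centralised by `E`
      have hcE : ∀ e ∈ E, e * c * e⁻¹ = c := fun e he => by rw [hg, hgE e he]; group
      have hwc : w = v * c := by rw [hc, ← mul_assoc, hvv, one_mul]
      have hpat' : ∀ x ∈ B, ∀ y ∈ A, x * y * x⁻¹ = y ∨ x * y * x⁻¹ = y * c := by
        intro x hx y hy
        by_cases hy1 : y = 1
        · left; rw [hy1]; group
        · obtain ⟨e, he, rfl⟩ := hE y hy hy1
          rcases hpat x hx e he with h3 | h3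
          · exact Or.inl h3
          · right
            rw [h3, hwc]
            calc e * (v * c) * e⁻¹ = (e * v * e⁻¹) * (e * c * e⁻¹) := by group
              _ = _ := by rw [hcE e he]
      -- `x ∈ A#`, `x ≠ v`, fixed by `b`
      obtain ⟨x, hxA, hx1, hxb⟩ : ∃ x ∈ A, x ≠ 1 ∧ b * x * b⁻¹ = x := by
        rcases hpat' b hb a ha with h3 | h3
        · exact ⟨a, ha, ha1, h3⟩
        · refine ⟨v * a, A.mul_mem hvA ha, ?_, ?_⟩
          · intro h
            apply hav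
            have h4 := eq_inv_of_mul_eq_one_right h
            rw [h4, inv_eq_of_mul_eq_one_left hvv]
          · have h4 : b * (v * a) * b⁻¹ = (b * v * b⁻¹) * (b * a * b⁻¹) := by group
            rw [h4, h3, ← hw, hwc, comm a (hAY ha) c hcY]
            calc v * c * (c * a) = v * (c * c) * a := by group
              _ = v * a := by rw [hY2 c hcY]; group
      obtain ⟨e, he, hxe⟩ := hE x hxA hx1
      have hb1 : e⁻¹ * b * e⁻¹⁻¹ ∈ B := hnB _ (C.inv_mem (hEC he)) b hb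
      obtain ⟨b₁, hb₁⟩ : ∃ b₁, b₁ = e⁻¹ * b * e⁻¹⁻¹ := ⟨_, rfl⟩
      rw [← hb₁] at hb1
      have h5 : b₁ * v * b₁⁻¹ = v := by
        have h6 : b₁ * v * b₁⁻¹ = e⁻¹ * (b * (e * v * e⁻¹) * b⁻¹) * e := by rw [hb₁]; group
        rw [h6, hxe, hxb, ← hxe]; group
      have hFb₁ : F b₁ := by
        by_contra h
        exact hwv ((hmove b₁ hb1 h).symm.trans h5)
      obtain ⟨k, hk, t, ht, hkt⟩ := hFb₁
      have huA : e⁻¹ * v * e⁻¹⁻¹ ∈ A := hEA _ (E.inv_mem he) v hvA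
      obtain ⟨u, hu⟩ : ∃ u, u = e⁻¹ * v * e⁻¹⁻¹ := ⟨_, rfl⟩
      rw [← hu] at huA
      have h6 : b₁ * u * b₁⁻¹ = u * c := by
        have h7 : b₁ * u * b₁⁻¹ = e⁻¹ * (b * v * b⁻¹) * e := by rw [hb₁, hu]; group
        rw [h7, ← hw, hwc, hu]
        have h8 := hcE _ (E.inv_mem he)
        calc e⁻¹ * (v * c) * e = e⁻¹ * v * e⁻¹⁻¹ * (e⁻¹ * c * e⁻¹⁻¹) := by group
          _ = _ := by rw [h8]
      have h7 : t * u * t⁻¹ = u * c := by
        have h8 := mem_centralizer_iff.1 hk _ (hAY (hTA t ht u huA))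
        have h9 : b₁ * u * b₁⁻¹ = k * (t * u * t⁻¹) * k⁻¹ := by rw [hkt]; group
        rw [h9, ← h8] at h6
        rw [← h6]; group
      have hcA : c ∈ A := by
        have h8 := hTA t ht u huA
        rw [h7] at h8
        exact (A.mul_mem_cancel_left huA).1 h8
      obtain ⟨e', he', h8⟩ := hE c hcA hc1
      have h9 : v = c := by
        have h10 := hcE _ (E.inv_mem he')
        rw [← h8] at h10
        rw [← h8]
        calc v = e'⁻¹ * (e' * v * e'⁻¹) * e'⁻¹⁻¹ := by group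
          _ = _ := h10
      obtain ⟨e'', he'', h10⟩ := hE a ha ha1
      rw [h9, hcE _ he''] at h10
      exact hav (h10.symm.trans h9.symm)
    · -- `w = g` is centralised by `E`
      have hwg : w = g := by
        rw [hc] at hg
        exact mul_left_cancel hg
      have hwE : ∀ e ∈ E, e * w * e⁻¹ = w := fun e he => by rw [hwg, hgE e he]; group
      obtain ⟨x, hxA, hx1, hxv, hxb⟩ : ∃ x ∈ A, x ≠ 1 ∧ x ≠ v ∧ b * x * b⁻¹ ≠ x := by
        by_cases h3 : b * a * b⁻¹ = a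
        · refine ⟨v * a, A.mul_mem hvA ha, ?_, ?_, ?_⟩
          · intro h
            apply hav
            have h4 := eq_inv_of_mul_eq_one_right h
            rw [h4, inv_eq_of_mul_eq_one_left hvv]
          · intro h
            exact ha1 (mul_eq_left.1 h)
          · intro h
            have h4 : b * (v * a) * b⁻¹ = (b * v * b⁻¹) * (b * a * b⁻¹) := by group
            rw [h4, h3, ← hw] at h
            exact hwv (mul_right_cancel h)
        · exact ⟨a, ha, ha1, hav, h3⟩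
      obtain ⟨e, he, hxe⟩ := hE x hxA hx1
      rcases hpat b hb e he with h3 | h3
      · rw [hxe] at h3
        exact hxb h3
      · rw [hxe, hwE e he, hw] at h3
        have h4 : x = v := by
          have h5 := mul_right_cancel h3
          exact mul_left_cancel h5
        exact hxv h4
  -- (III)
  have hBcv : B ≤ centralizer ({v} : Set G) := fun b hb => mem_centralizer_singleton_iff.2 (hBv b hb)
  have hTcv : T ≤ centralizer ({v} : Set G) := fun t ht => mem_centralizer_singleton_iff.2 (hTv t ht)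
  have hX : B ⊔ T ≤ centralizer ({v} : Set G) := sup_le hBcv hTcv
  have hXC : B ⊔ T ≤ C := sup_le hBC hTC
  have hXo : ¬ 2 ∣ T.relIndex (B ⊔ T) := by
    intro h
    apply hodd
    rw [← relIndex_mul_relIndex T (B ⊔ T) _ le_sup_right hX]
    exact Dvd.dvd.mul_right h _
  have h3 := le_sup_of_pow hT hXo le_sup_left (hXC.trans hCB) (hXC.trans hK) hBK
  intro b hb
  refine ⟨?_, hBv b hb⟩
  obtain ⟨k, hk, t, ht, rfl⟩ := exists_mul ((inf_le_left.trans hTC).trans hK) (h3 hb)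
  rw [mul_assoc, hTr t ht.1, ← mul_assoc, ← mem_centralizer_iff.1 hk r hrY, mul_assoc]

end Cfsg.Agent.Omega.HT.FillY

end

end

-- merged: Cfsg.Agent.Mrg.Omega.NO3S.CaseLW.QWa
section

section


/-!
# THEOREM QW (helper866, #24897), steps (2'), (2), (3)

The quiet weird `Y` of the case (L), `q = 2`.  `M` is a 2-local over `S`, `Z_M = ⟨Z^M⟩ = zl S M`, `Z = ⟨z⟩`.

* `Tv N c w` : `w` induces `1` or the transvection with centre `c` on `N`;
* `false_of_tv` : the Baer-Suzuki argument of (2);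
* `le_o2` : **(2')** `W_e ≤ O₂(C_G(z z_e))`;
* `cent_zl` : **(2)** `Z_M` centralises `U` ((ML) and `false_of_tv`);
* `le_o2_M` : **(3)** `U ≤ O₂(M)`.
-/

set_option autoImplicit false

namespace Cfsg.Agent.Omega.NO3S.CaseLW.QW

open Subgroup Cfsg Cfsg.Agent.ZN Cfsg.Agent.Omega.MinPar
open Cfsg.Agent.MinSimple.VModule (o2_isPGroup)
open Cfsg.Agent.Omega.HOne.TvHSide (le_normalizer_of le_normalizer_inf_centralizer red_of)
open Cfsg.Agent.Omega.ML.Final (MLK)
open Cfsg.Agent.Omega.ML.GMod (ZD)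

universe u

variable {G : Type u} [Group G]

/-- `w` induces `1` or the transvection with centre `c` on `N`. -/
structure Tv (N : Subgroup G) (c w : G) : Prop where
  tv : ∀ x ∈ N, w * x * w⁻¹ = x ∨ w * x * w⁻¹ = x * c
  cc : w * c = c * w

/-- `(a b)^4` centralises `N` if the centre of `b` lies in the axis of `a`. -/
theorem pow_four {N : Subgroup G} (hsq : ∀ x ∈ N, x * x = 1) (hcm : ∀ x ∈ N, ∀ y ∈ N, x * y = y * x)
    {a b c d : G} (hc : c ∈ N) (hd : d ∈ N) (ha : Tv N c a) (hb : Tv N d b) (had : a * d = d * a) :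
    (a * b) ^ 4 ∈ centralizer (N : Set G) := by
  set f := MulAut.conj (a * b) with hf
  have e1 : ∀ n : G, f n = a * (b * n * b⁻¹) * a⁻¹ := fun n => by
    rw [hf, MulAut.conj_apply]; group
  have had' : a * d * a⁻¹ = d := by rw [had, mul_assoc, mul_inv_cancel, mul_one]
  have hac' : a * c * a⁻¹ = c := by rw [ha.cc, mul_assoc, mul_inv_cancel, mul_one]
  have hbd' : b * d * b⁻¹ = d := by rw [hb.cc, mul_assoc, mul_inv_cancel, mul_one]
  have hmul : ∀ x y : G, a * (x * y) * a⁻¹ = (a * x * a⁻¹) * (a * y * a⁻¹) := fun x y => by group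
  have hfd : f d = d := by rw [e1, hbd', had']
  have hfc : f c = c ∨ f c = c * d := by
    rw [e1]
    rcases hb.tv c hc with h1 | h1
    · rw [h1]; exact Or.inl hac'
    · rw [h1, hmul, hac', had']; exact Or.inr rfl
  have hn : ∀ n ∈ N, f n = n ∨ f n = n * c ∨ f n = n * d ∨ f n = n * c * d := by
    intro n hn
    rw [e1]
    rcases hb.tv n hn with h1 | h1
    · rw [h1]
      rcases ha.tv n hn with h2 | h2
      · exact Or.inl h2
      · exact Or.inr (Or.inl h2)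
    · rw [h1, hmul, had']
      rcases ha.tv n hn with h2 | h2
      · rw [h2]; exact Or.inr (Or.inr (Or.inl rfl))
      · rw [h2]; exact Or.inr (Or.inr (Or.inr rfl))
  have k1 : ∀ x : G, x * c * c = x := fun x => by rw [mul_assoc, hsq c hc, mul_one]
  have k2 : ∀ x : G, x * d * d = x := fun x => by rw [mul_assoc, hsq d hd, mul_one]
  have k3 : ∀ x : G, x * d * c = x * c * d := fun x => by rw [mul_assoc, hcm d hd c hc, ← mul_assoc]
  have h2 : ∀ n ∈ N, f (f n) = n ∨ f (f n) = n * d := by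
    intro n hnN
    rcases hn n hnN with h1 | h1 | h1 | h1
    · rw [h1, h1]; exact Or.inl rfl
    · rw [h1, map_mul, h1]
      rcases hfc with h2 | h2
      · rw [h2, k1]; exact Or.inl rfl
      · rw [h2, ← mul_assoc, k1]; exact Or.inr rfl
    · rw [h1, map_mul, h1, hfd, k2]; exact Or.inl rfl
    · rw [h1, map_mul, map_mul, h1, hfd]
      rcases hfc with h2 | h2
      · rw [h2, k3, k1, k2]; exact Or.inl rfl
      · rw [h2, ← mul_assoc, k3, k1, k2]; exact Or.inr rfl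
  have h4 : ∀ n ∈ N, f (f (f (f n))) = n := by
    intro n hnN
    rcases h2 n hnN with h3 | h3
    · rw [h3, h3]
    · rw [h3, map_mul, map_mul, hfd, hfd, h3, mul_assoc, hsq d hd, mul_one]
  refine mem_centralizer_iff.2 fun n hnN => ?_
  have h5 : (MulAut.conj ((a * b) ^ 4)) n = n := by
    rw [map_pow, pow_succ, pow_succ, pow_succ, pow_one]
    exact h4 n hnN
  rw [MulAut.conj_apply, mul_inv_eq_iff_eq_mul] at h5
  exact h5.symm

/-- two involutions in a common 2-group -/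
theorem common' {A : Subgroup G} {u w : G} (hA : IsPGroup 2 A) (hu : u ∈ A) (hww : w * w = 1)
    (hAn : ∀ a ∈ A, w * a * w⁻¹ ∈ A) : ∃ k : ℕ, (u * w) ^ 2 ^ k = 1 := by
  have h1 : zpowers w ≤ normalizer (A : Set G) := by
    rw [zpowers_le, mem_normalizer_iff]
    intro x
    refine ⟨fun hx => hAn x hx, fun hx => ?_⟩
    have hwi : w⁻¹ = w := inv_eq_of_mul_eq_one_left hww
    have h2 := hAn _ hx
    have e : w * (w * x * w⁻¹) * w⁻¹ = (w * w) * x * (w⁻¹ * w⁻¹) := by group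
    rw [e, hwi, hww, one_mul, mul_one] at h2
    exact h2
  have h2 : IsPGroup 2 (zpowers w) := MinSimple.Basic.isPGroup_zpowers (by rw [sq]; exact hww)
  have h3 := IsPGroup.to_sup_of_normal_right' h2 hA h1
  obtain ⟨k, hk⟩ := h3 ⟨u * w, mul_mem (mem_sup_right hu) (mem_sup_left (mem_zpowers w))⟩
  exact ⟨k, congrArg Subtype.val hk⟩

section fin

variable [Finite G]

/-- **Baer-Suzuki for an involution of `H` acting on `NN`**, strong form. -/
theorem exists_odd {H NN : Subgroup G} (hNH : H ≤ normalizer (NN : Set G))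
    (hred : ∀ K : Subgroup G, K ≤ H → H ≤ normalizer (K : Set G) →
      (∀ x ∈ K, ∃ k : ℕ, x ^ 2 ^ k ∈ centralizer (NN : Set G)) → K ≤ centralizer (NN : Set G))
    {u : G} (hu : u ∈ H) (huu : u * u = 1) (hun : u ∉ centralizer (NN : Set G)) :
    ∃ h ∈ H, ∀ k : ℕ, (u * (h * u * h⁻¹)) ^ 2 ^ k ∉ centralizer (NN : Set G) := by
  have hCH := le_normalizer_inf_centralizer hNH
  set C : Subgroup G := H ⊓ centralizer (NN : Set G) with hC
  have hn : (C.subgroupOf H).Normal := normal_subgroupOf_of_le_normalizer hCH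
  set f := QuotientGroup.mk' (C.subgroupOf H) with hf
  have hf1 : ∀ y : H, f y = 1 ↔ (y : G) ∈ C := by
    intro y
    exact QuotientGroup.eq_one_iff (N := C.subgroupOf H) y
  set a := f ⟨u, hu⟩ with ha
  have haa : a * a = 1 := by
    rw [ha, ← map_mul]
    have : (⟨u, hu⟩ : H) * ⟨u, hu⟩ = 1 := Subtype.ext huu
    rw [this, map_one]
  obtain ⟨g, hg1, hgo, hgi⟩ := Involutions.BaerSuzuki.exists_odd_inverted a haa (by
    intro h1
    have h2 := hred (((normalClosure {a}).comap f).map H.subtype) (map_subtype_le _) ?_ ?_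
    · have h3 : u ∈ ((normalClosure {a}).comap f).map H.subtype :=
        ⟨⟨u, hu⟩, subset_normalClosure rfl, rfl⟩
      exact hun (h2 h3)
    · refine le_normalizer_of ?_
      rintro x hx _ ⟨y, hy, rfl⟩
      refine ⟨⟨x, hx⟩ * y * ⟨x, hx⟩⁻¹, ?_, rfl⟩
      change f _ ∈ normalClosure {a}
      rw [map_mul, map_mul, map_inv]
      exact normalClosure_normal.conj_mem _ hy _
    · rintro _ ⟨y, hy, rfl⟩
      obtain ⟨k, hk⟩ := h1 ⟨f y, hy⟩
      refine ⟨k, ?_⟩
      have h2 : f (y ^ 2 ^ k) = 1 := by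
        rw [map_pow]
        exact congrArg Subtype.val hk
      exact ((hf1 _).1 h2).2)
  obtain ⟨⟨h, hh⟩, rfl⟩ := QuotientGroup.mk'_surjective (C.subgroupOf H) g
  refine ⟨h, hh, fun k hk' => hg1 ?_⟩
  have hainv : a⁻¹ = a := inv_eq_of_mul_eq_one_left haa
  have h3 : f ((⟨u, hu⟩ : H) * (⟨h, hh⟩ * ⟨u, hu⟩ * ⟨h, hh⟩⁻¹)) = (f ⟨h, hh⟩)⁻¹ ^ 2 := by
    rw [map_mul, map_mul, map_mul, map_inv, ← ha]
    change a * (f ⟨h, hh⟩ * a * (f ⟨h, hh⟩)⁻¹) = _
    calc a * (f ⟨h, hh⟩ * a * (f ⟨h, hh⟩)⁻¹) = a * f ⟨h, hh⟩ * a * (f ⟨h, hh⟩)⁻¹ := by group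
      _ = a * f ⟨h, hh⟩ * a⁻¹ * (f ⟨h, hh⟩)⁻¹ := by rw [hainv]
      _ = (f ⟨h, hh⟩)⁻¹ * (f ⟨h, hh⟩)⁻¹ := by rw [hgi]
      _ = _ := by rw [sq]
  have h4 : f (((⟨u, hu⟩ : H) * (⟨h, hh⟩ * ⟨u, hu⟩ * ⟨h, hh⟩⁻¹)) ^ 2 ^ k) = 1 := by
    refine (hf1 _).2 ⟨?_, ?_⟩
    · exact Subtype.prop _
    · exact hk'
  have h5 : (f ⟨h, hh⟩) ^ 2 ^ (k + 1) = 1 := by
    rw [map_pow, h3, ← pow_mul, inv_pow, inv_eq_one] at h4
    rw [pow_succ, mul_comm]
    exact h4
  have h6 : orderOf (f ⟨h, hh⟩) ∣ 2 ^ (k + 1) := orderOf_dvd_of_pow_eq_one h5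
  have h7 : Nat.Coprime (orderOf (f ⟨h, hh⟩)) (2 ^ (k + 1)) :=
    Nat.Coprime.pow_right _ (Nat.coprime_two_right.2 hgo)
  exact orderOf_eq_one_iff.1 (h7.eq_one_of_dvd h6)

omit [Finite G] in
theorem o2_conj_mem {L : Subgroup G} {g a : G} (hg : g ∈ L) (ha : a ∈ o2 L) : g * a * g⁻¹ ∈ o2 L :=
  (mem_normalizer_iff.1 (MinSimple.VModule.le_normalizer_o2 L hg) a).1 ha

omit [Finite G] in
/-- **(2')** `W_e ≤ O₂(C_G(z z_e))`: `B = C_S(Z_J)` is normal in every 2-group over it, `N_G(B) ≤ C_G(z)`, `B ≤ C(z_e)`,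
the elements of `W_e` are conjugate to `z_e` in `C_G(z z_e)`. -/
theorem le_o2 (hG : IsCharacteristicTwoType G) {B : Subgroup G} (hB : IsPGroup 2 B)
    (wc : ∀ R : Subgroup G, IsPGroup 2 R → B ≤ R → R ≤ normalizer (B : Set G))
    {z e : G} (hz : z * z = 1) (he : e * e = 1) (hze : z * e = e * z) (hne : z ≠ e)
    (nz : ∀ g ∈ normalizer (B : Set G), g * z = z * g) (Be : ∀ b ∈ B, b * e = e * b)
    {W : Subgroup G} (hW : ∀ w ∈ W, w ≠ 1 → ∃ g : G, g * (z * e) = z * e * g ∧ w = g * e * g⁻¹) :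
    W ≤ o2 (centralizer ({z * e} : Set G)) := by
  set H := centralizer ({z * e} : Set G) with hH
  have hze2 : (z * e) ^ 2 = 1 := by
    rw [sq]
    calc z * e * (z * e) = z * (e * z) * e := by group
      _ = z * (z * e) * e := by rw [hze]
      _ = (z * z) * (e * e) := by group
      _ = 1 := by rw [hz, he, mul_one]
  have hze1 : z * e ≠ 1 := by
    intro h1
    apply hne
    have h2 : z = e⁻¹ := eq_inv_of_mul_eq_one_left h1
    rw [h2]
    exact inv_eq_of_mul_eq_one_left he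
  have hBH : B ≤ H := by
    intro b hb
    rw [hH, mem_centralizer_singleton_iff]
    rw [← mul_assoc, nz b (le_normalizer hb), mul_assoc, Be b hb, mul_assoc]
  have h1 : IsPGroup 2 (B ⊔ o2 H : Subgroup G) :=
    IsPGroup.to_sup_of_normal_right' hB (o2_isPGroup H) (hBH.trans (MinSimple.VModule.le_normalizer_o2 H))
  have h2 : o2 H ≤ normalizer (B : Set G) := le_sup_right.trans (wc _ h1 le_sup_left)
  have heH : e ∈ H := by
    rw [hH, mem_centralizer_singleton_iff]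
    rw [← mul_assoc, ← hze, mul_assoc]
  have he1 : e ∈ o2 H := by
    refine MinSimple.Basic.char2_centralizer hG hze2 hze1 ⟨heH, mem_centralizer_iff.2 fun x hx => ?_⟩
    have h3 : x * z = z * x := nz x (h2 hx)
    have h4 : x * (z * e) = z * e * x := (mem_centralizer_singleton_iff.1 (o2_le H hx))
    rw [← mul_assoc, h3, mul_assoc, mul_assoc] at h4
    exact mul_left_cancel h4
  intro w hw
  by_cases hw1 : w = 1
  · rw [hw1]; exact one_mem _
  · obtain ⟨g, hg, rfl⟩ := hW w hw hw1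
    exact o2_conj_mem (mem_centralizer_singleton_iff.2 hg) he1

omit [Finite G] in
theorem zl_le_closure (S M : Subgroup G) : zl S M ≤ _root_.Subgroup.closure {x | ∃ g ∈ M, ∃ z ∈ (zc S : Set G), g * z * g⁻¹ = x} := by
  refine iSup_le fun g => ?_
  rintro _ ⟨x, hx, rfl⟩
  exact subset_closure ⟨g, g.2, x, hx, rfl⟩

variable (S : Sylow 2 G) {M : Subgroup G}

/-- `Q_Z ≤ O₂(C_M(Z))` -/
theorem oz_le (hM : (S : Subgroup G) ≤ M) (hS : (S : Subgroup G) ≠ ⊥) :
    o2 (centralizer (zc (S : Subgroup G) : Set G)) ≤ o2 (M ⊓ centralizer (zc (S : Subgroup G) : Set G)) := by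
  refine MinSimple.VModule.le_o2 (le_inf (((isLoc_centralizer_zc S hS).o2_le S).trans hM) (o2_le _)) (o2_isPGroup _)
    (inf_le_right.trans (MinSimple.VModule.le_normalizer_o2 _))

/-- `Z_M` is 2-reduced. -/
theorem red_zl (h : (S : Subgroup G) ≤ M) (K : Subgroup G) (hKM : K ≤ M) (hMK : M ≤ normalizer (K : Set G))
    (hK : ∀ x ∈ K, ∃ k : ℕ, x ^ 2 ^ k ∈ centralizer (zl (S : Subgroup G) M : Set G)) :
    K ≤ centralizer (zl (S : Subgroup G) M : Set G) :=
  red_of (Z₀ := (zc (S : Subgroup G) : Set G)) h S.isPGroup' (MinSimple.Basic.not_dvd_relIndex S h)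
    (fun x hx _ hz => (ChoiceBase.mem_zc.1 hz).2.2 x hx) (le_normalizer_zl _ _)
    (MinSimple.VModule.zc_le_zl _ _) (zl_le_closure _ _) K hKM hMK hK

/-- **(3)** `U ≤ O₂(M)`. -/
theorem le_o2_M (h : (S : Subgroup G) ≤ M) (hS : (S : Subgroup G) ≠ ⊥) {U : Subgroup G}
    (hU : U ≤ centralizer (zl (S : Subgroup G) M : Set G))
    (hUQ : U ≤ o2 (centralizer (zc (S : Subgroup G) : Set G))) : U ≤ o2 M := by
  have hQM : o2 (centralizer (zc (S : Subgroup G) : Set G)) ≤ M := ((isLoc_centralizer_zc S hS).o2_le S).trans h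
  set Q := o2 (centralizer (zc (S : Subgroup G) : Set G)) with hQ
  set C := M ⊓ centralizer (zl (S : Subgroup G) M : Set G) with hC
  have hCz : C ≤ centralizer (zc (S : Subgroup G) : Set G) :=
    inf_le_right.trans (centralizer_le (MinSimple.VModule.zc_le_zl _ _))
  have hMC : M ≤ normalizer (C : Set G) := le_normalizer_inf_centralizer (le_normalizer_zl _ _)
  have h1 : Q ⊓ C ≤ o2 C := by
    refine MinSimple.VModule.le_o2 inf_le_right ((o2_isPGroup _).to_le inf_le_left) ?_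
    refine le_normalizer_of fun a ha b hb => ⟨?_, C.mul_mem (C.mul_mem ha hb.2) (C.inv_mem ha)⟩
    exact o2_conj_mem (hCz ha) hb.1
  have h2 : o2 C ≤ o2 M :=
    MinSimple.VModule.le_o2 ((o2_le _).trans inf_le_left) (o2_isPGroup _)
      (hMC.trans (normalizer_le_normalizer_o2 C))
  exact fun x hx => h2 (h1 ⟨hUQ hx, hQM (hUQ hx), hU hx⟩)

end fin

end Cfsg.Agent.Omega.NO3S.CaseLW.QW

end

section


/-!
# THEOREM QW for every `q`, line (2): the odd-order lemma (helper276)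

`H` normalises the elementary abelian 2-group `N` (additively a module), `O₂(H/C_H(N)) = 1`, `u ∈ H` is an
involution, `z ∈ C_N(u)`.  If `u` moves `N`, then Baer-Suzuki gives a conjugate `w = h u h⁻¹` (`h ∈ H`) with
`⟨u, w⟩` no 2-group and `h` inverted by `u` and of odd order modulo `C_H(N)`.  The norm `z_c := ∏ h^i z h^-i`
is fixed by `u` and `w`, and `z_c ∈ z [N, u]`.

* `exists_avg` : `∃ c ∈ C, z c` commutes with `u` and `h` (`C` = any subgroup with `n (u n u⁻¹) ∈ C`, `n ∈ N`);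
* `exists_conj_avg` : the above together with Baer-Suzuki;
* `le_cent` : if for all `c ∈ C` some 2-group normalised by `C_G(z c)` contains `u`, then `u` centralises `N`.

No transvections, no field: the same lemma serves `q = 2`, `q ≥ 4` and `S_n`.
-/

set_option autoImplicit false

namespace Cfsg.Agent.Omega.NO3S.CaseLW.Odd

open Subgroup Cfsg

universe u

/-- the norm, in a commutative group -/
theorem avg {A : Type*} [CommGroup A] (U H : A →* A) (hUHUH : ∀ x, U (H (U (H x))) = x)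
    (hUU : ∀ x, U (U x) = x) {m : ℕ} (hm : ∀ x, H^[2 * m + 1] x = x) {z : A} (hz : U z = z)
    (D : Subgroup A) (hD : ∀ x, x * U x ∈ D) : ∃ c ∈ D, U (z * c) = z * c ∧ H (z * c) = z * c := by
  have hHU : ∀ x, H (U (H x)) = U x := by
    intro x
    have h1 := hUU (H (U (H x)))
    rw [hUHUH] at h1
    exact h1.symm
  have hiter : ∀ (i : ℕ) (x : A), H^[i] (U (H^[i] x)) = U x := by
    intro i
    induction i with
    | zero => intro x; rfl
    | succ i ih =>
      intro x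
      rw [Function.iterate_succ_apply' H i x, Function.iterate_succ_apply H i, hHU, ih]
  have hUx : ∀ i, i ≤ 2 * m + 1 → U (H^[i] z) = H^[2 * m + 1 - i] z := by
    intro i hi
    have h1 := hm (U (H^[i] z))
    have e : H^[2 * m + 1] (U (H^[i] z)) = H^[2 * m + 1 - i] (H^[i] (U (H^[i] z))) := by
      rw [← Function.iterate_add_apply, Nat.sub_add_cancel hi]
    rw [← h1, e, hiter, hz]
  refine ⟨∏ i ∈ Finset.range m, (H^[i + 1] z * U (H^[i + 1] z)), ?_, ?_, ?_⟩
  · exact D.prod_mem fun i _ => hD _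
  · rw [map_mul, hz, map_prod]
    congr 1
    refine Finset.prod_congr rfl fun i _ => ?_
    rw [map_mul, hUU, mul_comm]
  · set s := ∏ j ∈ Finset.range (2 * m + 1), H^[j] z with hs
    have hs1 : z * ∏ i ∈ Finset.range m, (H^[i + 1] z * U (H^[i + 1] z)) = s := by
      rw [hs, Finset.prod_range_succ', Finset.prod_mul_distrib, mul_comm]
      have e0 : H^[0] z = z := rfl
      rw [e0]
      congr 1
      rw [two_mul, Finset.prod_range_add]
      congr 1
      rw [← Finset.prod_range_reflect]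
      refine Finset.prod_congr rfl fun i hi => ?_
      have hi' := Finset.mem_range.1 hi
      rw [hUx _ (by omega)]
      congr 2
      omega
    rw [hs1, hs, map_prod]
    have e3 : ∀ j, H (H^[j] z) = H^[j + 1] z := fun j => (Function.iterate_succ_apply' H j z).symm
    rw [Finset.prod_congr rfl fun j _ => e3 j]
    have e4 := Finset.prod_range_succ' (fun j => H^[j] z) (2 * m + 1)
    have e5 := Finset.prod_range_succ (fun j => H^[j] z) (2 * m + 1)
    rw [e5, hm] at e4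
    have e6 : H^[0] z = z := rfl
    rw [e6] at e4
    exact (mul_right_cancel e4).symm

variable {G : Type u} [Group G]

/-- conjugation on a subgroup -/
def cjHom {N : Subgroup G} (g : G) (hg : ∀ x ∈ N, g * x * g⁻¹ ∈ N) : N →* N where
  toFun x := ⟨g * x * g⁻¹, hg _ x.2⟩
  map_one' := Subtype.ext (by simp)
  map_mul' x y := Subtype.ext (by simp only [mul_assoc, _root_.Subgroup.coe_mul, _root_.MulMemClass.mk_mul_mk, _root_.inv_mul_cancel_left])

theorem cjHom_apply {N : Subgroup G} {g : G} (hg : ∀ x ∈ N, g * x * g⁻¹ ∈ N) (x : N) :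
    (cjHom g hg x : G) = g * x * g⁻¹ := rfl

theorem cjHom_iter {N : Subgroup G} {g : G} (hg : ∀ x ∈ N, g * x * g⁻¹ ∈ N) (n : ℕ) (x : N) :
    (((cjHom g hg)^[n] x : N) : G) = g ^ n * x * (g ^ n)⁻¹ := by
  induction n with
  | zero => simp
  | succ n ih =>
    rw [Function.iterate_succ_apply', cjHom_apply, ih, pow_succ']
    group

/-- **the norm under an element of odd order which is inverted by `u`** -/
theorem exists_avg {N C : Subgroup G} (hab : ∀ x ∈ N, ∀ y ∈ N, x * y = y * x)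
    {u h : G} (huu : u * u = 1) (hu : ∀ x ∈ N, u * x * u⁻¹ ∈ N) (hh : ∀ x ∈ N, h * x * h⁻¹ ∈ N)
    (hC : ∀ x ∈ N, x * (u * x * u⁻¹) ∈ C) {m : ℕ} (hm : ∀ x ∈ N, h ^ (2 * m + 1) * x = x * h ^ (2 * m + 1))
    (hi : ∀ x ∈ N, (u * h * u * h) * x = x * (u * h * u * h)) {z : G} (hz : z ∈ N)
    (hzu : u * z = z * u) : ∃ c ∈ N, c ∈ C ∧ u * (z * c) = z * c * u ∧ h * (z * c) = z * c * h := by
  let _ : CommGroup N := { (inferInstance : Group N) with
    mul_comm := fun x y => Subtype.ext (hab x x.2 y y.2) }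
  have hui : u⁻¹ = u := inv_eq_of_mul_eq_one_left huu
  obtain ⟨c, hc, h1, h3⟩ := avg (cjHom u hu) (cjHom h hh) (fun x => Subtype.ext (by
      simp only [cjHom_apply]
      have := hi x x.2
      calc u * (h * (u * (h * x * h⁻¹) * u⁻¹) * h⁻¹) * u⁻¹
          = (u * h * u * h) * x * (h⁻¹ * u⁻¹ * h⁻¹ * u⁻¹) := by group
        _ = x * ((u * h * u * h) * (h⁻¹ * u⁻¹ * h⁻¹ * u⁻¹)) := by rw [this]; group
        _ = x := by group)) (fun x => Subtype.ext (by
      simp only [cjHom_apply]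
      calc u * (u * x * u⁻¹) * u⁻¹ = (u * u) * x * (u * u)⁻¹ := by group
        _ = x := by rw [huu]; group)) (m := m) (fun x => Subtype.ext (by
      have e := cjHom_iter hh (2 * m + 1) x
      refine Eq.trans e ?_
      rw [hm x x.2]
      group)) (z := ⟨z, hz⟩) (Subtype.ext (by
      rw [cjHom_apply]
      change u * z * u⁻¹ = z
      rw [hzu]; group)) (C.subgroupOf N) (fun x => by
      rw [mem_subgroupOf]
      exact hC x x.2)
  refine ⟨c, c.2, hc, ?_, ?_⟩
  · have := congrArg Subtype.val h1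
    change u * (z * c) * u⁻¹ = z * c at this
    rw [mul_inv_eq_iff_eq_mul] at this
    exact this
  · have := congrArg Subtype.val h3
    change h * (z * c) * h⁻¹ = z * c at this
    rw [mul_inv_eq_iff_eq_mul] at this
    exact this

theorem exists_conj_avg [Finite G] {H N C : Subgroup G} (hNH : H ≤ normalizer (N : Set G))
    (hred : ∀ K : Subgroup G, K ≤ H → H ≤ normalizer (K : Set G) →
      (∀ x ∈ K, ∃ k : ℕ, x ^ 2 ^ k ∈ centralizer (N : Set G)) → K ≤ centralizer (N : Set G))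
    (hab : ∀ x ∈ N, ∀ y ∈ N, x * y = y * x)
    {u : G} (hu : u ∈ H) (huu : u * u = 1) (hun : u ∉ centralizer (N : Set G))
    (hC : ∀ x ∈ N, x * (u * x * u⁻¹) ∈ C) {z : G} (hz : z ∈ N) (hzu : u * z = z * u) :
    ∃ h ∈ H, (∀ T : Subgroup G, IsPGroup 2 T → u ∈ T → h * u * h⁻¹ ∈ T → False) ∧
      ∃ c ∈ N, c ∈ C ∧ u * (z * c) = z * c * u ∧ h * (z * c) = z * c * h := by
  have hCn : H ≤ normalizer ((H ⊓ centralizer (N : Set G) : Subgroup G) : Set G) := by
    intro g hg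
    have hg' := hNH hg
    rw [mem_normalizer_iff] at hg' ⊢
    have key : ∀ g ∈ H, (∀ n, n ∈ N ↔ g * n * g⁻¹ ∈ N) → ∀ x, x ∈ H ⊓ centralizer (N : Set G) →
        g * x * g⁻¹ ∈ H ⊓ centralizer (N : Set G) := by
      rintro g hg hgN x ⟨hx, hx'⟩
      refine ⟨H.mul_mem (H.mul_mem hg hx) (H.inv_mem hg), ?_⟩
      replace hx' := mem_centralizer_iff.1 hx'
      refine mem_centralizer_iff.2 fun n hn => ?_
      have hn' : g⁻¹ * n * g ∈ N := by
        rw [hgN]
        have : g * (g⁻¹ * n * g) * g⁻¹ = n := by group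
        rwa [this]
      have := hx' _ hn'
      calc n * (g * x * g⁻¹) = g * ((g⁻¹ * n * g) * x) * g⁻¹ := by group
        _ = g * (x * (g⁻¹ * n * g)) * g⁻¹ := by rw [this]
        _ = _ := by group
    intro x
    refine ⟨fun hx => key g hg hg' x hx, fun hx => ?_⟩
    have h1 := key g⁻¹ (H.inv_mem hg) (by
      have h2 := hNH (H.inv_mem hg)
      rwa [mem_normalizer_iff] at h2) _ hx
    have e : g⁻¹ * (g * x * g⁻¹) * g⁻¹⁻¹ = x := by group
    rwa [e] at h1
  set D : Subgroup G := H ⊓ centralizer (N : Set G) with hD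
  have hn : (D.subgroupOf H).Normal := normal_subgroupOf_of_le_normalizer hCn
  set f := QuotientGroup.mk' (D.subgroupOf H) with hf
  have hf1 : ∀ y : H, f y = 1 → (y : G) ∈ D := by
    intro y hy
    exact (QuotientGroup.eq_one_iff (N := D.subgroupOf H) y).1 hy
  set a := f ⟨u, hu⟩ with ha
  have haa : a * a = 1 := by
    rw [ha, ← map_mul]
    have : (⟨u, hu⟩ : H) * ⟨u, hu⟩ = 1 := Subtype.ext huu
    rw [this, map_one]
  obtain ⟨g, hg1, hgo, hgi⟩ := Involutions.BaerSuzuki.exists_odd_inverted a haa (by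
    intro h1
    have h2 := hred (((normalClosure {a}).comap f).map H.subtype) (map_subtype_le _) ?_ ?_
    · have h3 : u ∈ ((normalClosure {a}).comap f).map H.subtype :=
        ⟨⟨u, hu⟩, subset_normalClosure rfl, rfl⟩
      exact hun (h2 h3)
    · have key : ∀ x ∈ H, ∀ y ∈ ((normalClosure {a}).comap f).map H.subtype,
          x * y * x⁻¹ ∈ ((normalClosure {a}).comap f).map H.subtype := by
        rintro x hx _ ⟨y, hy, rfl⟩
        refine ⟨⟨x, hx⟩ * y * ⟨x, hx⟩⁻¹, ?_, rfl⟩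
        change f _ ∈ normalClosure {a}
        rw [map_mul, map_mul, map_inv]
        exact normalClosure_normal.conj_mem _ hy _
      intro x hx
      rw [mem_normalizer_iff]
      intro y
      refine ⟨fun hy => key x hx y hy, fun hy => ?_⟩
      have h1 := key x⁻¹ (H.inv_mem hx) _ hy
      have e : x⁻¹ * (x * y * x⁻¹) * x⁻¹⁻¹ = y := by group
      rwa [e] at h1
    · rintro _ ⟨y, hy, rfl⟩
      obtain ⟨k, hk⟩ := h1 ⟨f y, hy⟩
      refine ⟨k, ?_⟩
      have h2 : f (y ^ 2 ^ k) = 1 := by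
        rw [map_pow]
        exact congrArg Subtype.val hk
      exact (hf1 _ h2).2)
  obtain ⟨⟨h, hh⟩, rfl⟩ := QuotientGroup.mk'_surjective (D.subgroupOf H) g
  have hainv : a⁻¹ = a := inv_eq_of_mul_eq_one_left haa
  obtain ⟨m, hm⟩ := hgo
  have hN : ∀ g ∈ H, ∀ x ∈ N, g * x * g⁻¹ ∈ N := by
    intro g hg x hx
    exact (mem_normalizer_iff.1 (hNH hg) x).1 hx
  have hcomm : ∀ y ∈ D, ∀ x ∈ N, y * x = x * y := by
    intro y hy x hx
    exact ((mem_centralizer_iff.1 hy.2) x hx).symm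
  refine ⟨h, hh, fun T hT hT1 hT2 => hg1 ?_, ?_⟩
  · obtain ⟨k, hk⟩ := hT ⟨u * (h * u * h⁻¹), T.mul_mem hT1 hT2⟩
    have hk' : (u * (h * u * h⁻¹)) ^ 2 ^ k = 1 := congrArg Subtype.val hk
    have h3 : f ((⟨u, hu⟩ : H) * (⟨h, hh⟩ * ⟨u, hu⟩ * ⟨h, hh⟩⁻¹)) = (f ⟨h, hh⟩)⁻¹ ^ 2 := by
      rw [map_mul, map_mul, map_mul, map_inv, ← ha]
      change a * (f ⟨h, hh⟩ * a * (f ⟨h, hh⟩)⁻¹) = _
      calc a * (f ⟨h, hh⟩ * a * (f ⟨h, hh⟩)⁻¹) = a * f ⟨h, hh⟩ * a * (f ⟨h, hh⟩)⁻¹ := by group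
        _ = a * f ⟨h, hh⟩ * a⁻¹ * (f ⟨h, hh⟩)⁻¹ := by rw [hainv]
        _ = (f ⟨h, hh⟩)⁻¹ * (f ⟨h, hh⟩)⁻¹ := by rw [hgi]
        _ = _ := by rw [sq]
    have h4 : ((⟨u, hu⟩ : H) * (⟨h, hh⟩ * ⟨u, hu⟩ * ⟨h, hh⟩⁻¹)) ^ 2 ^ k = 1 := Subtype.ext hk'
    have h5 : (f ⟨h, hh⟩) ^ 2 ^ (k + 1) = 1 := by
      have := congrArg f h4
      rw [map_pow, h3, map_one, ← pow_mul, inv_pow, inv_eq_one] at this
      rw [pow_succ, mul_comm]
      exact this
    have h6 : orderOf (f ⟨h, hh⟩) ∣ 2 ^ (k + 1) := orderOf_dvd_of_pow_eq_one h5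
    have h7 : Nat.Coprime (orderOf (f ⟨h, hh⟩)) (2 ^ (k + 1)) :=
      Nat.Coprime.pow_right _ (Nat.coprime_two_right.2 ⟨m, hm⟩)
    exact orderOf_eq_one_iff.1 (h7.eq_one_of_dvd h6)
  · refine exists_avg hab huu (hN u hu) (hN h hh) hC (m := m) ?_ ?_ hz hzu
    · have e : f ((⟨h, hh⟩ : H) ^ (2 * m + 1)) = 1 := by
        rw [map_pow]
        have := pow_orderOf_eq_one (f ⟨h, hh⟩)
        rwa [show orderOf (f ⟨h, hh⟩) = 2 * m + 1 from hm] at this
      have h1 := hf1 _ e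
      exact hcomm _ h1
    · have e : f ((⟨u, hu⟩ : H) * ⟨h, hh⟩ * ⟨u, hu⟩ * ⟨h, hh⟩) = 1 := by
        rw [map_mul, map_mul, map_mul, ← ha]
        have : a * f ⟨h, hh⟩ * a = (f ⟨h, hh⟩)⁻¹ := by
          have h8 := hgi
          rwa [hainv] at h8
        rw [this, inv_mul_cancel]
      exact hcomm _ (hf1 _ e)

/-- two elements in a 2-group, the second normalising -/
theorem common {A : Subgroup G} {u w f : G} (hA : IsPGroup 2 A) (hu : u ∈ A) (hww : w * w = 1)
    (hAn : ∀ x, x * f = f * x → ∀ a ∈ A, x * a * x⁻¹ ∈ A) (hw : w * f = f * w) :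
    ∃ T : Subgroup G, IsPGroup 2 T ∧ u ∈ T ∧ w ∈ T := by
  have h1 : zpowers w ≤ normalizer (A : Set G) := by
    rw [zpowers_le, mem_normalizer_iff]
    intro x
    refine ⟨fun hx => hAn w hw x hx, fun hx => ?_⟩
    have hwi : w⁻¹ = w := inv_eq_of_mul_eq_one_left hww
    have h2 := hAn w hw _ hx
    have e : w * (w * x * w⁻¹) * w⁻¹ = (w * w) * x * (w⁻¹ * w⁻¹) := by group
    rw [e, hwi, hww, one_mul, mul_one] at h2
    exact h2
  have h2 : IsPGroup 2 (zpowers w) := by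
    rintro ⟨_, k, rfl⟩
    refine ⟨1, Subtype.ext ?_⟩
    change (w ^ k) ^ 2 ^ 1 = 1
    rw [pow_one, ← zpow_natCast, ← zpow_mul, mul_comm, zpow_mul, zpow_natCast, sq, hww, one_zpow]
  refine ⟨zpowers w ⊔ A, IsPGroup.to_sup_of_normal_right' h2 hA h1, mem_sup_right hu,
    mem_sup_left (mem_zpowers w)⟩

/-- **LINE (2) OF THEOREM QW, EVERY `q`.**  `C` is a subgroup containing the commutators `[n, u]`, `n ∈ N`. -/
theorem mem_cent [Finite G] {H N C : Subgroup G} (hNH : H ≤ normalizer (N : Set G))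
    (hred : ∀ K : Subgroup G, K ≤ H → H ≤ normalizer (K : Set G) →
      (∀ x ∈ K, ∃ k : ℕ, x ^ 2 ^ k ∈ centralizer (N : Set G)) → K ≤ centralizer (N : Set G))
    (hab : ∀ x ∈ N, ∀ y ∈ N, x * y = y * x)
    {u : G} (hu : u ∈ H) (huu : u * u = 1)
    (hC : ∀ x ∈ N, x * (u * x * u⁻¹) ∈ C) {z : G} (hz : z ∈ N) (hzu : u * z = z * u)
    (hA : ∀ c ∈ N, c ∈ C → u * (z * c) = z * c * u → ∃ A : Subgroup G, IsPGroup 2 A ∧ u ∈ A ∧
      ∀ x, x * (z * c) = z * c * x → ∀ a ∈ A, x * a * x⁻¹ ∈ A) :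
    u ∈ centralizer (N : Set G) := by
  by_contra hun
  obtain ⟨h, hh, hT, c, hcN, hcC, h1, h2⟩ := exists_conj_avg hNH hred hab hu huu hun hC hz hzu
  obtain ⟨A, hA1, hA2, hA3⟩ := hA c hcN hcC h1
  have hww : h * u * h⁻¹ * (h * u * h⁻¹) = 1 := by
    calc h * u * h⁻¹ * (h * u * h⁻¹) = h * (u * u) * h⁻¹ := by group
      _ = 1 := by rw [huu]; group
  have hwf : h * u * h⁻¹ * (z * c) = z * c * (h * u * h⁻¹) := by
    have h3 : h⁻¹ * (z * c) = z * c * h⁻¹ := by
      calc h⁻¹ * (z * c) = h⁻¹ * (z * c * h) * h⁻¹ := by group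
        _ = h⁻¹ * (h * (z * c)) * h⁻¹ := by rw [h2]
        _ = _ := by group
    calc h * u * h⁻¹ * (z * c) = h * u * (h⁻¹ * (z * c)) := by group
      _ = h * (u * (z * c)) * h⁻¹ := by rw [h3]; group
      _ = (h * (z * c)) * u * h⁻¹ := by rw [h1]; group
      _ = z * c * (h * u * h⁻¹) := by rw [h2]; group
  obtain ⟨T, hT1, hT2, hT3⟩ := common hA1 hA2 hww hA3 hwf
  exact hT T hT1 hT2 hT3

end Cfsg.Agent.Omega.NO3S.CaseLW.Odd

end

section


/-!
# THEOREM QW, step (2) for every `q` (helper866, #24897; helper276, #25131)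

* `cent_zl_q` : `Z_M = ⟨Z^M⟩` centralises `U ≤ O₂(C_M(Z))`: (ML) and `Odd.mem_cent`; `C` is a subgroup (`Z_j^y`), `|Z|` is
  arbitrary, `z ∈ Z`;
* `oz_le_of` : `O₂(C_G(z)) ≤ O₂(C_M(Z))`.
-/

set_option autoImplicit false

namespace Cfsg.Agent.Omega.NO3S.CaseLW.QW

open Subgroup Cfsg Cfsg.Agent.ZN Cfsg.Agent.Omega.MinPar
open Cfsg.Agent.MinSimple.VModule (o2_isPGroup)
open Cfsg.Agent.Omega.HOne.TvHSide (le_normalizer_of)
open Cfsg.Agent.Omega.ML.Final (MLK)
open Cfsg.Agent.Omega.ML.GMod (ZD)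

universe u

variable {G : Type u} [Group G] [Finite G] (S : Sylow 2 G) {M : Subgroup G}

/-- **(2)**, every `q`: `Z_M` centralises `U ≤ O₂(C_M(Z))`. -/
theorem cent_zl_q (hG : IsCharacteristicTwoType G) (ml : MLK.{u, u}) (h : IsLoc (S : Subgroup G) M) (hK : IsKGroup M)
    {z : G} (hz : z ∈ zl (S : Subgroup G) M) {U : Subgroup G} (hU2 : ∀ x ∈ U, x * x = 1)
    (hUO : U ≤ o2 (M ⊓ centralizer (zc (S : Subgroup G) : Set G)))
    (hex : (centralizer (zl (S : Subgroup G) M : Set G)).relIndex U ≤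
        (centralizer (U : Set G)).relIndex (zl (S : Subgroup G) M) →
      ¬ U ≤ centralizer (zl (S : Subgroup G) M : Set G) →
        ∃ w ∈ U, ∃ C : Subgroup G, w ∉ centralizer (zl (S : Subgroup G) M : Set G) ∧ w * z = z * w ∧
          (∀ x ∈ zl (S : Subgroup G) M, x * (w * x * w⁻¹) ∈ C) ∧
          ∀ c ∈ zl (S : Subgroup G) M, c ∈ C → w * (z * c) = z * c * w → w ∈ o2 (centralizer ({z * c} : Set G))) :
    U ≤ centralizer (zl (S : Subgroup G) M : Set G) := by
  by_contra hn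
  have hsq : ∀ v ∈ zl (S : Subgroup G) M, v * v = 1 := fun v hv => by
    have h1 := (ChoiceBase.mem_zc.1 (IsLoc.zl_le S hG h hv)).2.1
    rwa [sq] at h1
  have D : ZD M (zl (S : Subgroup G) M) (zc (S : Subgroup G)) (S : Subgroup G) U :=
    { nV := le_normalizer_zl _ _
      sq := hsq
      ZV := MinSimple.VModule.zc_le_zl _ _
      gen := fun X h1 h2 => MinSimple.VModule.zl_le h1 h2
      TL := h.le
      two := S.isPGroup'
      odd := MinSimple.Basic.not_dvd_relIndex S h.le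
      TZ := le_centralizer_zc _
      AO := hUO
      Asq := fun a ha => by rw [hU2 a ha]; exact one_mem _ }
  obtain ⟨w, hw, C, hwn, hwz, hC, hwo⟩ := hex (D.gml ml hK) hn
  have hcm : ∀ x ∈ zl (S : Subgroup G) M, ∀ y ∈ zl (S : Subgroup G) M, x * y = y * x := by
    intro x hx y hy
    have h2 : x⁻¹ = x := inv_eq_of_mul_eq_one_left (hsq x hx)
    have h3 : y⁻¹ = y := inv_eq_of_mul_eq_one_left (hsq y hy)
    have h4 : (x * y)⁻¹ = x * y := inv_eq_of_mul_eq_one_left (hsq _ (mul_mem hx hy))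
    rw [mul_inv_rev, h2, h3] at h4
    exact h4.symm
  refine hwn (Odd.mem_cent (H := M) (C := C) (le_normalizer_zl _ _) (red_zl S h.le) hcm
    (((hUO.trans (o2_le _)).trans inf_le_left) hw) (hU2 w hw) hC hz hwz fun c hcN hcC hcw =>
      ⟨o2 (centralizer ({z * c} : Set G)), o2_isPGroup _, hwo c hcN hcC hcw, fun x hx a ha => ?_⟩)
  exact o2_conj_mem (mem_centralizer_singleton_iff.2 hx) ha

end Cfsg.Agent.Omega.NO3S.CaseLW.QW

end

section


/-!
# THEOREM QW for `|Z| > 2`: the three-step conjugation (helper360 #25134, helper792 #25398 / #25515)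

`X` is an elementary abelian 2-group normalised by `M`, `O₂(M/C_M(X)) = 1`.

* `Rg X A C` : `A` acts on `X` as a "root group" with centre `C`: `[X, A] ≤ C ≤ C_X(A)` and `[x, A] = C` for every
  `x ∈ X` which is moved by `A`;
* `Rg.four` : if `A` centralises `C'` then `(a a')^4` centralises `X`;
* `Rg.move` : three steps: `p ↦ p s ↦ p s c ↦ p c` under `⟨A, A'⟩`;
* `cent_of_three` : **line (2) of QW with `low` for all of `Z` only** (`A ≤ O₂(C_M(Z))`; for every `z ∈ Z#` some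
  `c ∈ C` with `A ≤ O₂(C_G(z c))` and `z c` not `M`-conjugate to `z`): `A ≤ C(X)`;
* `cent_or_move` : the step of LEMMA LZ (`A ≤ O₂(C_G(z))` for one `z`).
-/

set_option autoImplicit false

namespace Cfsg.Agent.Omega.NO3S.CaseLW.Three

open Subgroup Cfsg
open scoped Pointwise
open Cfsg.Agent.Omega.NO3S.CaseLW.QW (exists_odd common')

universe u

variable {G : Type u} [Group G]

/-- `A` acts on `X` as a root group with centre `C` (or trivially). -/
structure Rg (X A C : Subgroup G) : Prop where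
  sqX : ∀ x ∈ X, x * x = 1
  sqA : ∀ a ∈ A, a * a = 1
  CX : C ≤ X
  CA : ∀ c ∈ C, ∀ a ∈ A, a * c = c * a
  cm : ∀ x ∈ X, ∀ a ∈ A, ∃ c ∈ C, a * x * a⁻¹ = x * c
  rg : ∀ x ∈ X, (∀ a ∈ A, a * x = x * a) ∨ ∀ s ∈ C, ∃ a ∈ A, a * x * a⁻¹ = x * s

variable {X A C A' C' : Subgroup G}

theorem Rg.comm (h : Rg X A C) : ∀ x ∈ X, ∀ y ∈ X, x * y = y * x := by
  intro x hx y hy
  have h1 := h.sqX _ (X.mul_mem hx hy)
  have h2 : x⁻¹ = x := inv_eq_of_mul_eq_one_left (h.sqX x hx)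
  have h3 : y⁻¹ = y := inv_eq_of_mul_eq_one_left (h.sqX y hy)
  have h4 : (x * y)⁻¹ = x * y := inv_eq_of_mul_eq_one_left h1
  rw [mul_inv_rev, h2, h3] at h4
  exact h4.symm

/-- conjugate -/
theorem Rg.conj (h : Rg X A C) {m : G} (hm : m ∈ normalizer (X : Set G)) :
    Rg X (MulAut.conj m • A) (MulAut.conj m • C) := by
  have hX : ∀ x, x ∈ X → m⁻¹ * x * m ∈ X := by
    intro x hx
    have h1 := (mem_normalizer_iff.1 ((normalizer (X : Set G)).inv_mem hm) x).1 hx
    rwa [inv_inv] at h1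
  have hX' : ∀ x, x ∈ X → m * x * m⁻¹ ∈ X := fun x hx => (mem_normalizer_iff.1 hm x).1 hx
  refine ⟨h.sqX, ?_, ?_, ?_, ?_, ?_⟩
  · intro a ha
    rw [mem_pointwise_smul_iff_inv_smul_mem, ← map_inv, MulAut.smul_def, MulAut.conj_apply, inv_inv] at ha
    have h1 := h.sqA _ ha
    calc a * a = m * ((m⁻¹ * a * m) * (m⁻¹ * a * m)) * m⁻¹ := by group
      _ = 1 := by rw [h1]; group
  · intro c hc
    rw [mem_pointwise_smul_iff_inv_smul_mem, ← map_inv, MulAut.smul_def, MulAut.conj_apply, inv_inv] at hc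
    have h1 := hX' _ (h.CX hc)
    have e : m * (m⁻¹ * c * m) * m⁻¹ = c := by group
    rwa [e] at h1
  · intro c hc a ha
    rw [mem_pointwise_smul_iff_inv_smul_mem, ← map_inv, MulAut.smul_def, MulAut.conj_apply, inv_inv] at hc ha
    have h1 := h.CA _ hc _ ha
    calc a * c = m * ((m⁻¹ * a * m) * (m⁻¹ * c * m)) * m⁻¹ := by group
      _ = c * a := by rw [h1]; group
  · intro x hx a ha
    rw [mem_pointwise_smul_iff_inv_smul_mem, ← map_inv, MulAut.smul_def, MulAut.conj_apply, inv_inv] at ha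
    obtain ⟨c, hc, h1⟩ := h.cm _ (hX x hx) _ ha
    refine ⟨m * c * m⁻¹, ?_, ?_⟩
    · rw [mem_pointwise_smul_iff_inv_smul_mem, ← map_inv, MulAut.smul_def, MulAut.conj_apply, inv_inv]
      have e : m⁻¹ * (m * c * m⁻¹) * m = c := by group
      rwa [e]
    · calc a * x * a⁻¹ = m * ((m⁻¹ * a * m) * (m⁻¹ * x * m) * (m⁻¹ * a * m)⁻¹) * m⁻¹ := by group
        _ = x * (m * c * m⁻¹) := by rw [h1]; group
  · intro x hx
    rcases h.rg _ (hX x hx) with h1 | h1
    · refine Or.inl fun a ha => ?_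
      rw [mem_pointwise_smul_iff_inv_smul_mem, ← map_inv, MulAut.smul_def, MulAut.conj_apply, inv_inv] at ha
      have h2 := h1 _ ha
      calc a * x = m * ((m⁻¹ * a * m) * (m⁻¹ * x * m)) * m⁻¹ := by group
        _ = x * a := by rw [h2]; group
    · refine Or.inr fun s hs => ?_
      rw [mem_pointwise_smul_iff_inv_smul_mem, ← map_inv, MulAut.smul_def, MulAut.conj_apply, inv_inv] at hs
      obtain ⟨a, ha, h2⟩ := h1 _ hs
      refine ⟨m * a * m⁻¹, ?_, ?_⟩
      · rw [mem_pointwise_smul_iff_inv_smul_mem, ← map_inv, MulAut.smul_def, MulAut.conj_apply, inv_inv]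
        have e : m⁻¹ * (m * a * m⁻¹) * m = a := by group
        rwa [e]
      · calc m * a * m⁻¹ * x * (m * a * m⁻¹)⁻¹ = m * (a * (m⁻¹ * x * m) * a⁻¹) * m⁻¹ := by group
          _ = x * s := by rw [h2]; group

/-- if `A` centralises `C'`, then `(a a')^4` centralises `X` -/
theorem Rg.four (h : Rg X A C) (h' : Rg X A' C') (hc : ∀ s ∈ C', ∀ a ∈ A, a * s = s * a)
    {a a' : G} (ha : a ∈ A) (ha' : a' ∈ A') : (a * a') ^ 4 ∈ centralizer (X : Set G) := by
  set f := MulAut.conj (a * a') with hf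
  have e1 : ∀ n : G, f n = a * (a' * n * a'⁻¹) * a⁻¹ := fun n => by
    rw [hf, MulAut.conj_apply]; group
  have hcj : ∀ {b s : G}, b * s = s * b → b * s * b⁻¹ = s := fun {b s} e => by
    rw [e, mul_assoc, mul_inv_cancel, mul_one]
  have hmul : ∀ x y : G, a * (x * y) * a⁻¹ = (a * x * a⁻¹) * (a * y * a⁻¹) := fun x y => by group
  have hcm := h.comm
  -- `f` on `C'`
  have f1 : ∀ s ∈ C', f s = s := by
    intro s hs
    rw [e1, hcj (h'.CA s hs a' ha'), hcj (hc s hs a ha)]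
  -- `f` on `C`
  have f2 : ∀ c ∈ C, ∃ s ∈ C', f c = c * s := by
    intro c hc1
    obtain ⟨s, hs, h1⟩ := h'.cm c (h.CX hc1) a' ha'
    refine ⟨s, hs, ?_⟩
    rw [e1, h1, hmul, hcj (h.CA c hc1 a ha), hcj (hc s hs a ha)]
  have f3 : ∀ x ∈ X, ∃ c ∈ C, ∃ s ∈ C', f x = x * c * s := by
    intro x hx
    obtain ⟨s, hs, h1⟩ := h'.cm x hx a' ha'
    obtain ⟨c, hc1, h2⟩ := h.cm x hx a ha
    refine ⟨c, hc1, s, hs, ?_⟩
    rw [e1, h1, hmul, h2, hcj (hc s hs a ha)]
  have f4 : ∀ x ∈ X, ∃ s ∈ C', f (f x) = x * s := by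
    intro x hx
    obtain ⟨c, hc1, s, hs, h1⟩ := f3 x hx
    obtain ⟨s', hs', h2⟩ := f2 c hc1
    refine ⟨s', hs', ?_⟩
    rw [h1, map_mul, map_mul, h1, h2, f1 s hs]
    have hcX := h.CX hc1
    have hsX := h'.CX hs
    have hsX' := h'.CX hs'
    calc x * c * s * (c * s') * s = x * (c * (s * c)) * (s' * s) := by group
      _ = x * (c * (c * s)) * (s * s') := by rw [hcm s hsX c hcX, hcm s' hsX' s hsX]
      _ = x * (c * c) * (s * s) * s' := by group
      _ = x * s' := by rw [h.sqX c hcX, h.sqX s hsX, mul_one, mul_one]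
  refine mem_centralizer_iff.2 fun x hx => ?_
  have h5 : (MulAut.conj ((a * a') ^ 4)) x = x := by
    rw [map_pow, pow_succ, pow_succ, pow_succ, pow_one]
    change f (f (f (f x))) = x
    obtain ⟨s, hs, h1⟩ := f4 x hx
    rw [h1, map_mul, map_mul, f1 s hs, f1 s hs, h1, mul_assoc, h'.sqX s (h'.CX hs), mul_one]
  rw [MulAut.conj_apply, mul_inv_eq_iff_eq_mul] at h5
  exact h5.symm

/-- **three steps** `p ↦ p s ↦ p s c ↦ p c` -/
theorem Rg.move (h : Rg X A C) (h' : Rg X A' C') (hC : ∃ s ∈ C', ∃ a ∈ A, a * s ≠ s * a)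
    {p c : G} (hp : p ∈ X) (hc : c ∈ C) (hpA : ∀ a ∈ A, a * p = p * a) (hpA' : ∃ a ∈ A', a * p ≠ p * a)
    (hqA' : ∃ a ∈ A', a * (p * c) ≠ p * c * a) : ∃ g ∈ A ⊔ A', g * p * g⁻¹ = p * c := by
  obtain ⟨s, hs, a₀, ha₀, hs1⟩ := hC
  have hcX := h.CX hc
  have hsX := h'.CX hs
  have hcm := h.comm
  obtain ⟨b₁, hb₁, e1⟩ : ∃ b ∈ A', b * p * b⁻¹ = p * s := by
    rcases h'.rg p hp with h1 | h1
    · obtain ⟨b, hb, h2⟩ := hpA'
      exact (h2 (h1 b hb)).elim
    · exact h1 s hs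
  obtain ⟨a₁, ha₁, e2⟩ : ∃ a ∈ A, a * s * a⁻¹ = s * c := by
    rcases h.rg s hsX with h1 | h1
    · exact (hs1 (h1 a₀ ha₀)).elim
    · exact h1 c hc
  obtain ⟨b₂, hb₂, e3⟩ : ∃ b ∈ A', b * (p * c) * b⁻¹ = p * c * s := by
    rcases h'.rg (p * c) (X.mul_mem hp hcX) with h1 | h1
    · obtain ⟨b, hb, h2⟩ := hqA'
      exact (h2 (h1 b hb)).elim
    · exact h1 s hs
  refine ⟨b₂ * a₁ * b₁, mul_mem (mul_mem (mem_sup_right hb₂) (mem_sup_left ha₁)) (mem_sup_right hb₁), ?_⟩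
  have e4 : a₁ * p * a₁⁻¹ = p := by rw [hpA a₁ ha₁, mul_assoc, mul_inv_cancel, mul_one]
  have e5 : b₂ * s * b₂⁻¹ = s := by rw [h'.CA s hs b₂ hb₂, mul_assoc, mul_inv_cancel, mul_one]
  calc b₂ * a₁ * b₁ * p * (b₂ * a₁ * b₁)⁻¹ = b₂ * (a₁ * (b₁ * p * b₁⁻¹) * a₁⁻¹) * b₂⁻¹ := by group
    _ = b₂ * ((a₁ * p * a₁⁻¹) * (a₁ * s * a₁⁻¹)) * b₂⁻¹ := by rw [e1]; group
    _ = b₂ * (p * (c * s)) * b₂⁻¹ := by rw [e4, e2, hcm s hsX c hcX]
    _ = (b₂ * (p * c) * b₂⁻¹) * (b₂ * s * b₂⁻¹) := by group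
    _ = p * c * (s * s) := by rw [e3, e5]; group
    _ = p * c := by rw [h'.sqX s hsX, mul_one]

section fin

variable [Finite G] {M Zs : Subgroup G}

/-- **The step of LEMMA LZ**: `H ≤ C(z)`, `t, z₀ ∈ C`, `t ≠ 1, z₀`; `A` lies in 2-groups normalised by `C_H(z z₀)`.
Then `A` centralises `X` or `z₀` is `H`-conjugate to another element of `C`. -/
theorem cent_or_move {H : Subgroup G} {z z₀ t : G} (hHX : H ≤ normalizer (X : Set G))
    (hred : ∀ K : Subgroup G, K ≤ H → H ≤ normalizer (K : Set G) →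
      (∀ x ∈ K, ∃ k : ℕ, x ^ 2 ^ k ∈ centralizer (X : Set G)) → K ≤ centralizer (X : Set G))
    (h : Rg X A C) (hAH : A ≤ H) (hHz : ∀ x ∈ H, x * z = z * x) (hz₀ : z₀ ∈ C) (ht : t ∈ C) (ht1 : t ≠ 1)
    (htz : t ≠ z₀)
    (hz : ∀ a ∈ A, ∃ R : Subgroup G, IsPGroup 2 R ∧ a ∈ R ∧
      ∀ x ∈ H, x * (z * z₀) = z * z₀ * x → ∀ r ∈ R, x * r * x⁻¹ ∈ R) :
    A ≤ centralizer (X : Set G) ∨ ∃ g ∈ H, ∃ c ∈ C, c ≠ z₀ ∧ g * z₀ * g⁻¹ = c := by
  by_contra hcon
  push Not at hcon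
  obtain ⟨h1, hno⟩ := hcon
  apply h1
  intro a ha
  by_contra hac
  obtain ⟨m, hm, hodd⟩ := exists_odd hHX hred (hAH ha) (h.sqA a ha) hac
  set a' := m * a * m⁻¹ with ha'
  have h' : Rg X (MulAut.conj m • A) (MulAut.conj m • C) := h.conj (hHX hm)
  have hA' : a' ∈ MulAut.conj m • A := by
    rw [mem_pointwise_smul_iff_inv_smul_mem, ← map_inv, MulAut.smul_def, MulAut.conj_apply, inv_inv, ha']
    have e : m⁻¹ * (m * a * m⁻¹) * m = a := by group
    rwa [e]
  have hA'H : MulAut.conj m • A ≤ H := by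
    intro x hx
    rw [mem_pointwise_smul_iff_inv_smul_mem, ← map_inv, MulAut.smul_def, MulAut.conj_apply, inv_inv] at hx
    have e : x = m * (m⁻¹ * x * m) * m⁻¹ := by group
    rw [e]
    exact H.mul_mem (H.mul_mem hm (hAH hx)) (H.inv_mem hm)
  have ha'H := hA'H hA'
  have haa' : a' * a' = 1 := h'.sqA _ hA'
  have key : ∀ R : Subgroup G, IsPGroup 2 R → a ∈ R → (∀ r ∈ R, a' * r * a'⁻¹ ∈ R) → False := by
    intro R hR haR hn
    obtain ⟨k, hk⟩ := common' hR haR haa' hn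
    exact hodd k (by rw [hk]; exact one_mem _)
  have hz₀X := h.CX hz₀
  have htX := h.CX ht
  -- `a'` moves `z₀`
  have hmz : a' * z₀ ≠ z₀ * a' := by
    intro h2
    obtain ⟨R, hR, haR, hn⟩ := hz a ha
    refine key R hR haR (hn a' ha'H ?_)
    calc a' * (z * z₀) = (a' * z) * z₀ := by group
      _ = z * (a' * z₀) := by rw [hHz a' ha'H]; group
      _ = z * z₀ * a' := by rw [h2]; group
  have hs : ∃ s ∈ MulAut.conj m • C, ∃ a ∈ A, a * s ≠ s * a := by
    by_contra hcon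
    push Not at hcon
    exact hodd 2 (h.four h' hcon ha hA')
  -- an element `c ≠ z₀` of `C` moved by `a'`
  obtain ⟨c, hc, hcz, hcm⟩ : ∃ c ∈ C, c ≠ z₀ ∧ a' * c ≠ c * a' := by
    by_cases h2 : a' * t = t * a'
    · refine ⟨z₀ * t, C.mul_mem hz₀ ht, fun h3 => ht1 ?_, fun h3 => hmz ?_⟩
      · exact mul_left_cancel (h3.trans (mul_one z₀).symm)
      · have h4 : a' * z₀ * t = z₀ * a' * t := by
          calc a' * z₀ * t = a' * (z₀ * t) := by group
            _ = z₀ * (t * a') := by rw [h3]; group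
            _ = z₀ * a' * t := by rw [← h2]; group
        exact mul_right_cancel h4
    · exact ⟨t, ht, htz, h2⟩
  have hcX := h.CX hc
  have e1 : z₀ * (z₀ * c) = c := by rw [← mul_assoc, h.sqX z₀ hz₀X, one_mul]
  obtain ⟨g, hg, hgz⟩ := h.move h' hs hz₀X (C.mul_mem hz₀ hc) (fun b hb => h.CA z₀ hz₀ b hb)
    ⟨a', hA', hmz⟩ ⟨a', hA', by rw [e1]; exact hcm⟩
  rw [e1] at hgz
  exact hno g ((sup_le hAH hA'H) hg) c hc hcz hgz

end fin

end Cfsg.Agent.Omega.NO3S.CaseLW.Three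

end

end

private theorem dce_1dd0ac65deb1 : _root_.True := by
  try have : _root_.True := by simp only [_root_.Cfsg.Agent.Omega.NO3S.CaseLW.Odd.cjHom.congr_simp]
  exact _root_.True.intro
end
end
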